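import Groth.Agent.GrpSchLib.WeilClosed
import Groth.Agent.H28.ClosedSub
import Groth.Prelude.Def_GrassD

/-!
# Grassmannians of a quotient module, on algebra valued points
-/

set_option autoImplicit false
set_option linter.style.haveILetI false
set_option linter.unusedSectionVars false
set_option backward.isDefEq.respectTransparency false
set_option backward.isDefEq.respectTransparency.types false
set_option maxHeartbeats 1000000

universe u

open CategoryTheory CategoryTheory.Limits AlgebraicGeometry TensorProduct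

noncomputable section

namespace Groth.Agent.GrassSch.Alg

open Groth.Agent Grass Module

variable {R : Type u} [CommRing R]

section Points

variable {X Y : Over (Spec (CommRingCat.of R))}

/-- The algebra of an affine point. -/
def alg {C : CommRingCat.{u}} (a : Spec C ⟶ X.left) : CommAlgCat.{u} R :=
  @CommAlgCat.of R _ C _ (Spec.preimage (R := CommRingCat.of R) (S := C) (a ≫ X.hom)).hom.toAlgebra

/-- An affine morphism as a point. -/
def pt {C : CommRingCat.{u}} (a : Spec C ⟶ X.left) : specOver R (alg a) ⟶ X :=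
  Over.homMk a (Spec.map_preimage _).symm

theorem exists_algHom {A : CommAlgCat.{u} R} (g : specOver R A ⟶ X) {C : CommRingCat.{u}}
    (ψ : CommRingCat.of A ⟶ C) : ∃ φ : A ⟶ alg (Spec.map ψ ≫ g.left), φ.hom.toRingHom = ψ.hom := by
  refine ⟨CommAlgCat.ofHom (X := (A : Type u)) (Y := (alg (Spec.map ψ ≫ g.left) : Type u))
    { toRingHom := ψ.hom, commutes' := fun r => ?_ }, rfl⟩
  have h : Spec.preimage (R := CommRingCat.of R) (S := C) ((Spec.map ψ ≫ g.left) ≫ X.hom) =
      CommRingCat.ofHom (algebraMap R A) ≫ ψ := by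
    refine Spec.map_injective ?_
    rw [Spec.map_preimage, Category.assoc, Spec.map_comp]
    exact congrArg (Spec.map ψ ≫ ·) (Over.w g)
  exact (RingHom.congr_fun (congrArg CommRingCat.Hom.hom h) r).symm

/-- Morphisms of `R`-schemes agree when they do on affine points. -/
theorem hom_ext_pts {a b : X ⟶ Y} (h : ∀ (A : CommAlgCat.{u} R) (g : specOver R A ⟶ X), g ≫ a = g ≫ b) :
    a = b := by
  refine Over.OverMorphism.ext (X.left.affineCover.hom_ext _ _ fun i => ?_)
  exact congrArg CommaMorphism.left (h _ (pt (X.left.affineCover.f i)))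

/-- A natural map on affine points comes from a morphism. -/
theorem exists_hom_of_natural (F : ∀ A : CommAlgCat.{u} R, (specOver R A ⟶ X) → (specOver R A ⟶ Y))
    (hF : ∀ (A B : CommAlgCat.{u} R) (φ : A ⟶ B) (g : specOver R A ⟶ X) (g' : specOver R B ⟶ X),
      g'.left = Spec.map (CommRingCat.ofHom φ.hom.toRingHom) ≫ g.left →
        (F B g').left = Spec.map (CommRingCat.ofHom φ.hom.toRingHom) ≫ (F A g).left) :
    ∃ c : X ⟶ Y, ∀ (A : CommAlgCat.{u} R) (g : specOver R A ⟶ X), g ≫ c = F A g := by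
  let Fl : ∀ {C : CommRingCat.{u}}, (Spec C ⟶ X.left) → (Spec C ⟶ Y.left) := fun a => (F _ (pt a)).left
  have hFl : ∀ (A : CommAlgCat.{u} R) (g : specOver R A ⟶ X) {C : CommRingCat.{u}} (ψ : CommRingCat.of A ⟶ C),
      Fl (Spec.map ψ ≫ g.left) = Spec.map ψ ≫ (F A g).left := fun A g C ψ => by
    obtain ⟨φ, hφ⟩ := exists_algHom g ψ
    have e : CommRingCat.ofHom φ.hom.toRingHom = ψ := by rw [hφ]; rfl
    refine (hF A _ φ g (pt (Spec.map ψ ≫ g.left)) ?_).trans (by rw [e])
    rw [e]; rfl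
  have hFl' : ∀ {C C' : CommRingCat.{u}} (a : Spec C ⟶ X.left) (ψ : Spec C' ⟶ Spec C),
      Fl (ψ ≫ a) = ψ ≫ Fl a := fun a ψ => by
    rw [← Spec.map_preimage ψ]
    exact hFl _ (pt a) (Spec.preimage ψ)
  let 𝒰 := X.left.affineCover
  have hc : ∀ i j, pullback.fst (𝒰.f i) (𝒰.f j) ≫ Fl (𝒰.f i) = pullback.snd (𝒰.f i) (𝒰.f j) ≫ Fl (𝒰.f j) := by
    intro i j
    refine (pullback (𝒰.f i) (𝒰.f j)).affineCover.hom_ext _ _ fun l => ?_
    rw [← Category.assoc, ← Category.assoc, ← hFl', ← hFl', Category.assoc, Category.assoc, pullback.condition]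
  let c₀ : X.left ⟶ Y.left := 𝒰.glueMorphisms (fun i => Fl (𝒰.f i)) hc
  have hcl : ∀ {C : CommRingCat.{u}} (a : Spec C ⟶ X.left), a ≫ c₀ = Fl a := fun {C} a => by
    refine Scheme.Cover.hom_ext (𝒰.pullback₁ a) _ _ fun (i : 𝒰.I₀) => ?_
    refine (pullback a (𝒰.f i)).affineCover.hom_ext _ _ fun l => ?_
    let w := (pullback a (𝒰.f i)).affineCover.f l
    show w ≫ pullback.fst a (𝒰.f i) ≫ a ≫ c₀ = w ≫ pullback.fst a (𝒰.f i) ≫ Fl a
    calc w ≫ pullback.fst a (𝒰.f i) ≫ a ≫ c₀ = (w ≫ pullback.snd a (𝒰.f i)) ≫ 𝒰.f i ≫ c₀ := by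
          simp only [Category.assoc, pullback.condition_assoc]
      _ = (w ≫ pullback.snd a (𝒰.f i)) ≫ Fl (𝒰.f i) := congrArg (_ ≫ ·) (Scheme.Cover.ι_glueMorphisms 𝒰 _ hc i)
      _ = Fl ((w ≫ pullback.snd a (𝒰.f i)) ≫ 𝒰.f i) := (hFl' _ _).symm
      _ = Fl ((w ≫ pullback.fst a (𝒰.f i)) ≫ a) := by rw [Category.assoc, Category.assoc, pullback.condition]
      _ = (w ≫ pullback.fst a (𝒰.f i)) ≫ Fl a := hFl' _ _
      _ = w ≫ pullback.fst a (𝒰.f i) ≫ Fl a := Category.assoc _ _ _
  refine ⟨Over.homMk c₀ (𝒰.hom_ext _ _ fun i => ?_), fun A g => Over.OverMorphism.ext ?_⟩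
  · rw [← Category.assoc, hcl]
    exact (Over.w (F _ (pt (𝒰.f i)))).trans (Spec.map_preimage _)
  · show g.left ≫ c₀ = _
    refine (hcl g.left).trans ?_
    have h := hFl A g (𝟙 _)
    rw [Spec.map_id] at h
    erw [Category.id_comp, Category.id_comp] at h
    exact h

end Points

section Algebra

variable {M₁ M₂ : Type u} [AddCommGroup M₁] [Module R M₁] [AddCommGroup M₂] [Module R M₂]
  (v : M₁ →ₗ[R] M₂) (hv : Function.Surjective v) {k : ℕ} {A : Type u} [CommRing A] [Algebra R A]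

/-- The quotient factors through the base change of `v`. -/
def Cond (N : Submodule A (A ⊗[R] M₁)) : Prop := LinearMap.ker (v.baseChange A) ≤ N

include hv in
/-- The quotient by a preimage. -/
def quotEquiv (P : Submodule A (A ⊗[R] M₂)) :
    ((A ⊗[R] M₁) ⧸ P.comap (v.baseChange A)) ≃ₗ[A] (A ⊗[R] M₂) ⧸ P :=
  (Submodule.quotEquivOfEq _ (LinearMap.ker (P.mkQ ∘ₗ v.baseChange A))
    (by rw [LinearMap.ker_comp, Submodule.ker_mkQ])).trans
  ((P.mkQ ∘ₗ v.baseChange A).quotKerEquivOfSurjective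
    (P.mkQ_surjective.comp (LinearMap.baseChange_surjective A hv)))

theorem quotEquiv_mkQ (P : Submodule A (A ⊗[R] M₂)) (x : A ⊗[R] M₁) :
    quotEquiv v hv P ((P.comap (v.baseChange A)).mkQ x) = P.mkQ (v.baseChange A x) := rfl

/-- Preimages of points of the Grassmannian. -/
def comapG (N : Grassmannian A (A ⊗[R] M₂) k) : Grassmannian A (A ⊗[R] M₁) k where
  toSubmodule := N.toSubmodule.comap (v.baseChange A)
  finite_quotient := Module.Finite.equiv (quotEquiv v hv N.toSubmodule).symm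
  projective_quotient := Module.Projective.of_equiv (quotEquiv v hv N.toSubmodule).symm
  rankAtStalk_eq p := (congrFun (Module.rankAtStalk_eq_of_equiv (quotEquiv v hv N.toSubmodule)) p).trans
    (N.rankAtStalk_eq p)

theorem comapG_injective : Function.Injective (comapG v hv : Grassmannian A (A ⊗[R] M₂) k → _) := fun N N' h =>
  Grassmannian.ext (Submodule.comap_injective_of_surjective (LinearMap.baseChange_surjective A hv)
    (congrArg Grassmannian.toSubmodule h))

theorem cond_comapG (N : Grassmannian A (A ⊗[R] M₂) k) : Cond v (comapG v hv N).toSubmodule := fun x hx => by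
  show v.baseChange A x ∈ N.toSubmodule
  rw [LinearMap.mem_ker.1 hx]
  exact zero_mem _

theorem exists_comapG {N : Grassmannian A (A ⊗[R] M₁) k} (h : Cond v N.toSubmodule) :
    ∃ N₂ : Grassmannian A (A ⊗[R] M₂) k, comapG v hv N₂ = N := by
  let P := N.toSubmodule.map (v.baseChange A)
  have hP : P.comap (v.baseChange A) = N.toSubmodule := by
    rw [Submodule.comap_map_eq, sup_eq_left.2 h]
  let e := (Submodule.quotEquivOfEq _ _ hP.symm).trans (quotEquiv v hv P)
  exact ⟨{ toSubmodule := P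
           finite_quotient := Module.Finite.equiv e
           projective_quotient := Module.Projective.of_equiv e
           rankAtStalk_eq := fun p => (congrFun (Module.rankAtStalk_eq_of_equiv e.symm) p).trans (N.rankAtStalk_eq p) },
    Grassmannian.ext hP⟩

variable {B : Type u} [CommRing B] [Algebra R B] (φ : A →ₐ[R] B)

theorem map_comapG (N : Grassmannian A (A ⊗[R] M₂) k) :
    Grassmannian.map φ (comapG v hv N) = comapG v hv (Grassmannian.map φ N) := by
  letI : Algebra A B := φ.toRingHom.toAlgebra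
  haveI : IsScalarTower R A B := IsScalarTower.of_algebraMap_eq' φ.comp_algebraMap.symm
  refine Grassmannian.ext ?_
  let e := (quotEquiv v hv N.toSubmodule).baseChange A B
  have key : ∀ x : B ⊗[R] M₁, e (Grassmannian.baseChangeMkQ B (comapG v hv N).toSubmodule x) =
      Grassmannian.baseChangeMkQ B N.toSubmodule (v.baseChange B x) := by
    intro x
    induction x with
    | zero => simp
    | tmul c m =>
      show e (c ⊗ₜ[A] (N.toSubmodule.comap (v.baseChange A)).mkQ ((1 : A) ⊗ₜ[R] m)) = c ⊗ₜ[A] N.toSubmodule.mkQ ((1 : A) ⊗ₜ[R] v m)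
      exact congrArg (c ⊗ₜ[A] ·) (quotEquiv_mkQ v hv N.toSubmodule ((1 : A) ⊗ₜ[R] m))
    | add x y hx hy => simp only [map_add, hx, hy]
  show LinearMap.ker _ = Submodule.comap _ (LinearMap.ker _)
  ext x
  exact ⟨fun h => LinearMap.mem_ker.2 ((key x).symm.trans (by rw [LinearMap.mem_ker.1 h, map_zero])),
    fun h => LinearMap.mem_ker.2 ((map_eq_zero_iff e e.injective).1 ((key x).trans (LinearMap.mem_ker.1 h)))⟩

include hv in
/-- The universal ideal for the condition. -/
theorem exists_ideal (N : Grassmannian A (A ⊗[R] M₁) k) :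
    ∃ I : Ideal A, ∀ (C : Type u) [CommRing C] [Algebra R C] (φ : A →ₐ[R] C),
      Cond v (Grassmannian.map φ N).toSubmodule ↔ I ≤ RingHom.ker φ.toRingHom := by
  let J : Set ((A ⊗[R] M₁) ⧸ N.toSubmodule) :=
    {q | ∃ m ∈ LinearMap.ker v, N.toSubmodule.mkQ ((1 : A) ⊗ₜ[R] m) = q}
  obtain ⟨I, hI⟩ := GrpSchLib.exists_contentIdeal_of_projective (A := A) J
  refine ⟨I, fun C _ _ φ => ?_⟩
  letI : Algebra A C := φ.toRingHom.toAlgebra
  haveI : IsScalarTower R A C := IsScalarTower.of_algebraMap_eq' φ.comp_algebraMap.symm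
  rw [Module.Grassmannian.map_toSubmodule]
  refine Iff.trans ?_ (hI C)
  let β := Module.Grassmannian.baseChangeMkQ C N.toSubmodule
  have hβ : ∀ (c : C) (m : M₁), β (c ⊗ₜ[R] m) = c ⊗ₜ[A] N.toSubmodule.mkQ ((1 : A) ⊗ₜ[R] m) := fun c m => rfl
  constructor
  · rintro h q ⟨m, hm, rfl⟩
    rw [← hβ]
    exact h (LinearMap.mem_ker.2 (by rw [LinearMap.baseChange_tmul, LinearMap.mem_ker.1 hm, TensorProduct.tmul_zero]))
  · intro h x hx
    have hx' : v.lTensor C x = 0 := by
      have := LinearMap.mem_ker.1 hx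
      rwa [LinearMap.baseChange_eq_ltensor] at this
    obtain ⟨z, rfl⟩ := (lTensor_exact C v.exact_subtype_ker_map hv x).1 hx'
    show β _ = 0
    clear hx hx'
    induction z with
    | zero => simp
    | tmul c m =>
      rw [LinearMap.lTensor_tmul, hβ]
      have h1 : (1 : C) ⊗ₜ[A] N.toSubmodule.mkQ ((1 : A) ⊗ₜ[R] (m : M₁)) = 0 := h _ ⟨m.1, m.2, rfl⟩
      rw [← mul_one c, ← smul_eq_mul, ← TensorProduct.smul_tmul', Submodule.coe_subtype, h1, smul_zero]
    | add x y hx hy => rw [map_add, map_add, hx, hy, add_zero]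

end Algebra

section Scheme

variable {M₁ M₂ : Type u} [AddCommGroup M₁] [Module R M₁] [AddCommGroup M₂] [Module R M₂]
  {v : M₁ →ₗ[R] M₂} (hv : Function.Surjective v) {k : ℕ} {X₁ X₂ : Over (Spec (CommRingCat.of R))}
  {e₁ : ∀ A : CommAlgCat.{u} R, (specOver R A ⟶ X₁) ≃ (Grassmannian.functor (R := R) (M := M₁) k).obj A}
  (he₁ : IsAlgRep R M₁ k X₁ e₁)
  {e₂ : ∀ A : CommAlgCat.{u} R, (specOver R A ⟶ X₂) ≃ (Grassmannian.functor (R := R) (M := M₂) k).obj A}
  (he₂ : IsAlgRep R M₂ k X₂ e₂)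

include he₁ he₂ in
theorem exists_comap_hom : ∃ c : X₂ ⟶ X₁, ∀ (A : CommAlgCat.{u} R) (g : specOver R A ⟶ X₂),
    e₁ A (g ≫ c) = comapG v hv (e₂ A g) := by
  obtain ⟨c, hc⟩ := exists_hom_of_natural (X := X₂) (Y := X₁) (fun A g => (e₁ A).symm (comapG v hv (e₂ A g)))
    fun A B φ g g' h => by
      let g₁ := (e₁ A).symm (comapG v hv (e₂ A g))
      have hw : (Spec.map (CommRingCat.ofHom φ.hom.toRingHom) ≫ g₁.left) ≫ X₁.hom = (specOver R B).hom := by
        rw [Category.assoc, Over.w g₁, ← Over.w g', h, Category.assoc, Over.w g]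
      have : (e₁ B).symm (comapG v hv (e₂ B g')) = Over.homMk _ hw := by
        rw [Equiv.symm_apply_eq, he₁ A B φ g₁ (Over.homMk _ hw) rfl, he₂ A B φ g g' h, Equiv.apply_symm_apply]
        exact (map_comapG v hv φ.hom (e₂ A g)).symm
      exact congrArg CommaMorphism.left this
  exact ⟨c, fun A g => by rw [hc, Equiv.apply_symm_apply]⟩

variable (v e₁) in
/-- The condition at an affine morphism. -/
def CondAt {C : CommRingCat.{u}} (a : Spec C ⟶ X₁.left) : Prop := Cond v (e₁ (alg a) (pt a)).toSubmodule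

include hv he₁ in
theorem exists_univ_ideal (A : CommAlgCat.{u} R) (g : specOver R A ⟶ X₁) :
    ∃ I : Ideal A, (Cond v (e₁ A g).toSubmodule ↔ I = ⊥) ∧
      ∀ {C : CommRingCat.{u}} (ψ : CommRingCat.of A ⟶ C),
        CondAt v e₁ (Spec.map ψ ≫ g.left) ↔ I ≤ RingHom.ker ψ.hom := by
  obtain ⟨I, hI⟩ := exists_ideal v hv (e₁ A g)
  refine ⟨I, ?_, fun {C} ψ => ?_⟩
  · have := hI A (AlgHom.id R A)
    rw [Grassmannian.map_id] at this
    rw [this]
    exact ⟨fun h => le_bot_iff.1 fun x hx => Ideal.mem_bot.2 (RingHom.mem_ker.1 (h hx)), fun h => h ▸ bot_le⟩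
  · obtain ⟨φ, hφ⟩ := exists_algHom g ψ
    have h := he₁ A _ φ g (pt (Spec.map ψ ≫ g.left)) (by rw [hφ]; rfl)
    rw [CondAt, h, ← hφ]
    exact hI _ φ.hom

include hv he₁ in
theorem exists_condLocus : ∃ (Z : Scheme.{u}) (ι : Z ⟶ X₁.left), IsClosedImmersion ι ∧
    ∀ {T : Scheme.{u}} (x : T ⟶ X₁.left), (∀ (C : CommRingCat.{u}) (a : Spec C ⟶ T), CondAt v e₁ (a ≫ x)) ↔
      ∃ z, z ≫ ι = x := by
  refine H28.ClosedSub.exists_closed (fun {T} x => ∀ (C : CommRingCat.{u}) (a : Spec C ⟶ T), CondAt v e₁ (a ≫ x))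
    (fun u x h C a => by rw [← Category.assoc]; exact h C (a ≫ u)) (fun {T} x 𝒱 h C a => ?_) fun U => ?_
  · obtain ⟨I, hI0, hI⟩ := exists_univ_ideal hv he₁ (alg (a ≫ x)) (pt (a ≫ x))
    refine hI0.2 (le_bot_iff.1 fun y hy => Ideal.mem_bot.2 ?_)
    let s : Set C := {r | ∃ (i : 𝒱.I₀), Set.range (Spec.map (CommRingCat.ofHom (algebraMap C (Localization.Away r))) ≫ a) ⊆
      Set.range (𝒱.f i)}
    have hs : Ideal.span s = ⊤ := by
      rw [← PrimeSpectrum.iSup_basicOpen_eq_top_iff']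
      refine eq_top_iff.2 fun p _ => ?_
      let i := Scheme.Cover.idx 𝒱 (a p)
      have hp : a p ∈ Set.range (𝒱.f i) := 𝒱.covers (a p)
      obtain ⟨_, ⟨_, ⟨r, rfl⟩, rfl⟩, hpr, hrU⟩ :=
        (PrimeSpectrum.isBasis_basic_opens (R := C)).exists_subset_of_mem_open (a := p)
          (u := ((a ⁻¹ᵁ (𝒱.f i).opensRange).1 : Set (PrimeSpectrum C))) hp (a ⁻¹ᵁ (𝒱.f i).opensRange).2
      refine TopologicalSpace.Opens.mem_iSup.2 ⟨r, TopologicalSpace.Opens.mem_iSup.2 ⟨⟨i, ?_⟩, hpr⟩⟩
      rintro _ ⟨q, rfl⟩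
      refine hrU ?_
      have : Spec.map (CommRingCat.ofHom (algebraMap C (Localization.Away r))) q ∈
          Set.range (PrimeSpectrum.comap (algebraMap C (Localization.Away r))) := ⟨q, rfl⟩
      rw [PrimeSpectrum.localization_away_comap_range (Localization.Away r) r] at this
      exact this
    refine Module.eq_zero_of_isLocalized_span s hs (fun r => Localization.Away (r : C))
      (fun r => Algebra.linearMap C (Localization.Away (r : C))) y ?_
    rintro ⟨r, i, hr⟩
    let b := Spec.map (CommRingCat.ofHom (algebraMap C (Localization.Away r)))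
    have h1 := h i _ (IsOpenImmersion.lift (𝒱.f i) (b ≫ a) hr)
    rw [← Category.assoc, IsOpenImmersion.lift_fac, Category.assoc] at h1
    show algebraMap C (Localization.Away r) y = 0
    exact RingHom.mem_ker.1 ((hI (CommRingCat.ofHom (algebraMap C (Localization.Away r)))).1 h1 hy)
  · obtain ⟨I, -, hI⟩ := exists_univ_ideal hv he₁ (alg U.2.fromSpec) (pt U.2.fromSpec)
    refine ⟨I, fun D q => ⟨fun h => ?_, fun h C a => ?_⟩⟩
    · have := h D (𝟙 _)
      rw [Category.id_comp] at this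
      exact (hI q).1 this
    · rw [← Spec.map_preimage a, ← Category.assoc, ← Spec.map_comp]
      exact (hI _).2 fun y hy => RingHom.mem_ker.2 (by
        show (Spec.preimage a).hom (q.hom y) = 0
        rw [RingHom.mem_ker.1 (h hy), map_zero])

include he₁ he₂ in
/-- A morphism taking preimages is a closed immersion. -/
theorem isClosedImmersion_of_comap (c : X₂ ⟶ X₁)
    (hc : ∀ (A : CommAlgCat.{u} R) (g : specOver R A ⟶ X₂), e₁ A (g ≫ c) = comapG v hv (e₂ A g)) :
    IsClosedImmersion c.left := by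
  obtain ⟨Z, ι, hι, hZ⟩ := exists_condLocus hv he₁
  haveI := hι
  have hc' : ∀ (C : CommRingCat.{u}) (a : Spec C ⟶ X₂.left), CondAt v e₁ (a ≫ c.left) := fun C a => by
    let g : specOver R (alg (a ≫ c.left)) ⟶ X₂ :=
      Over.homMk a (((Category.assoc _ _ _).trans (congrArg (a ≫ ·) (Over.w c))).symm.trans (Spec.map_preimage _).symm)
    have hg : g ≫ c = pt (a ≫ c.left) := Over.OverMorphism.ext rfl
    unfold CondAt
    rw [← hg, hc]
    exact cond_comapG v hv _
  obtain ⟨z, hz⟩ := (hZ c.left).1 hc'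
  let Zo : Over (Spec (CommRingCat.of R)) := Over.mk (ι ≫ X₁.hom)
  let ιo : Zo ⟶ X₁ := Over.homMk ι
  let φ : X₂ ⟶ Zo := Over.homMk z (by show z ≫ ι ≫ X₁.hom = _; rw [← Category.assoc, hz]; exact Over.w c)
  have hφ : φ ≫ ιo = c := Over.OverMorphism.ext hz
  have hcond : ∀ (A : CommAlgCat.{u} R) (g : specOver R A ⟶ Zo), Cond v (e₁ A (g ≫ ιo)).toSubmodule := fun A g => by
    obtain ⟨I, hI0, hI⟩ := exists_univ_ideal hv he₁ A (g ≫ ιo)
    have h1 := (hI (𝟙 (CommRingCat.of A))).1 (by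
      rw [Spec.map_id]
      erw [Category.id_comp]
      exact (hZ ι).2 ⟨𝟙 Z, Category.id_comp ι⟩ _ g.left)
    exact hI0.2 (le_bot_iff.1 fun y hy => Ideal.mem_bot.2 (RingHom.mem_ker.1 (h1 hy)))
  choose N₂ hN₂ using fun (A : CommAlgCat.{u} R) (g : specOver R A ⟶ Zo) => exists_comapG v hv (hcond A g)
  obtain ⟨ψ, hψ⟩ := exists_hom_of_natural (X := Zo) (Y := X₂) (fun A g => (e₂ A).symm (N₂ A g))
    fun A B f g g' h => by
      let g₂ := (e₂ A).symm (N₂ A g)
      have hw : (Spec.map (CommRingCat.ofHom f.hom.toRingHom) ≫ g₂.left) ≫ X₂.hom = (specOver R B).hom := by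
        rw [Category.assoc, Over.w g₂, ← Over.w g', h, Category.assoc, Over.w g]
      have : (e₂ B).symm (N₂ B g') = Over.homMk _ hw := by
        rw [Equiv.symm_apply_eq, he₂ A B f g₂ (Over.homMk _ hw) rfl, Equiv.apply_symm_apply]
        refine comapG_injective v hv ((hN₂ B g').trans ((he₁ A B f (g ≫ ιo) (g' ≫ ιo) ?_).trans ?_))
        · show g'.left ≫ ι = _
          rw [h, Category.assoc]; rfl
        · rw [← hN₂ A g]
          exact map_comapG v hv f.hom (N₂ A g)
      exact congrArg CommaMorphism.left this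
  haveI : Mono ιo := (Over.forget _).mono_of_mono_map (inferInstanceAs (Mono ι))
  have h1 : φ ≫ ψ = 𝟙 X₂ := hom_ext_pts fun A g => (e₂ A).injective (by
    rw [Category.comp_id, ← Category.assoc, hψ, Equiv.apply_symm_apply]
    refine comapG_injective v hv ((hN₂ A (g ≫ φ)).trans ?_)
    rw [Category.assoc, hφ, hc])
  have h2 : ψ ≫ φ = 𝟙 Zo := hom_ext_pts fun A g => by
    rw [Category.comp_id, ← cancel_mono ιo, Category.assoc, Category.assoc, hφ, ← Category.assoc]
    refine (e₁ A).injective ?_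
    rw [hc, hψ, Equiv.apply_symm_apply]
    exact hN₂ A g
  haveI : IsIso z := ⟨ψ.left, congrArg CommaMorphism.left h1, congrArg CommaMorphism.left h2⟩
  rw [← hz]
  infer_instance

end Scheme

end Groth.Agent.GrassSch.Alg

end
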