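import Groth.Agent.QuotRep.QuotOver
import Groth.Agent.KRRReg.LamPull
import Groth.Agent.ConsPropLib.FibreLocFreeRank
import Groth.Prelude.Def_GrassD

/-!
# Grassmannians as representing objects of quotient functors
-/

set_option autoImplicit false
set_option linter.style.haveILetI false
set_option linter.unusedSectionVars false
set_option backward.isDefEq.respectTransparency false
set_option backward.isDefEq.respectTransparency.types false
set_option maxHeartbeats 1000000
set_option synthInstance.maxHeartbeats 400000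

universe u

open CategoryTheory CategoryTheory.Limits AlgebraicGeometry TopologicalSpace Opposite

attribute [-instance] CategoryTheory.catToReflQuiver

noncomputable section

namespace Groth.Agent.GrassSch

open Groth.Agent Groth.Agent.QuotRep

variable {X G T : Scheme.{u}} {π : G ⟶ X} {E : X.Modules} {r : ℕ} {Q : G.Modules}
  {q : (Scheme.Modules.pullback π).obj E ⟶ Q}

/-- The base change of a quotient in the two notations. -/
theorem quotBC_eq_pullQ {h : T ⟶ G} {g : T ⟶ X} (hg : h ≫ π = g) (q : (Scheme.Modules.pullback π).obj E ⟶ Q) :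
    Grass.quotBC hg q = pullQ h π g hg q := by
  subst hg
  simp [Grass.quotBC, pullQ, LimMod.trIso]

/-- `T`-points classified by a quotient. -/
def IsClass (π : G ⟶ X) (q : (Scheme.Modules.pullback π).obj E ⟶ Q) {g : T ⟶ X} {L : T.Modules}
    (s : (Scheme.Modules.pullback g).obj E ⟶ L) (h : T ⟶ G) : Prop :=
  ∃ hg : h ≫ π = g, SameQ (pullQ h π g hg q) s

theorem isClass_iff {g : T ⟶ X} {L : T.Modules} (s : (Scheme.Modules.pullback g).obj E ⟶ L) (h : T ⟶ G) :
    IsClass π q s h ↔ ∃ (hg : h ≫ π = g) (e : (Scheme.Modules.pullback h).obj Q ≅ L), Grass.quotBC hg q ≫ e.hom = s :=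
  ⟨fun ⟨hg, e, he⟩ => ⟨hg, e, by rw [quotBC_eq_pullQ]; exact he⟩,
    fun ⟨hg, e, he⟩ => ⟨hg, e, by rw [← quotBC_eq_pullQ]; exact he⟩⟩

theorem isGrass_mk (hr : FlatMod.IsFinLocFreeOfRank r Q) (he : Epi q)
    (hu : ∀ (T : Scheme.{u}) (g : T ⟶ X) (L : T.Modules), FlatMod.IsFinLocFreeOfRank r L →
      ∀ s : (Scheme.Modules.pullback g).obj E ⟶ L, Epi s → ∃! h : T ⟶ G, IsClass π q s h) :
    Grass.IsGrass π E r Q q :=
  ⟨hr, he, fun T g L hL s hs => (existsUnique_congr fun h => isClass_iff s h).1 (hu T g L hL s hs)⟩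

theorem existsUnique_class (hG : Grass.IsGrass π E r Q q) {g : T ⟶ X} {L : T.Modules}
    (hL : FlatMod.IsFinLocFreeOfRank r L) (s : (Scheme.Modules.pullback g).obj E ⟶ L) [Epi s] :
    ∃! h : T ⟶ G, IsClass π q s h :=
  (existsUnique_congr fun h => isClass_iff s h).2 (hG.univ T g L hL s inferInstance)

theorem IsClass.of_sameQ {g : T ⟶ X} {L L' : T.Modules} {s : (Scheme.Modules.pullback g).obj E ⟶ L}
    {s' : (Scheme.Modules.pullback g).obj E ⟶ L'} {h : T ⟶ G} (hc : IsClass π q s h) (e : SameQ s s') :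
    IsClass π q s' h :=
  ⟨hc.1, hc.2.trans e⟩

theorem sameQ_symm_apply {P : Scheme.{u}} {B F : P.Modules} (p : B ⟶ F) [Epi p] :
    SameQ p (cokernel.π ((equivShrink.{u} (Subobject B)).symm (equivShrink.{u} _ (kernelSubobject p))).arrow) := by
  have gen : ∀ K : Subobject B, kernelSubobject p = K → SameQ p (cokernel.π K.arrow) := fun K e =>
    (kernelSubobject_eq_iff p K).1 e
  exact gen _ (Equiv.symm_apply_apply _ _).symm

variable (E r)

/-- Rank-`r` locally free quotients, recorded by their kernels. -/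
def GFun : (Over X)ᵒᵖ ⥤ Type u where
  obj T := {K : Shrink.{u} (Subobject ((Scheme.Modules.pullback T.unop.hom).obj E)) //
    FlatMod.IsFinLocFreeOfRank r (cokernel ((equivShrink _).symm K).arrow)}
  map {T T'} g := TypeCat.ofHom fun K => ⟨equivShrink _ (kernelSubobject (pullQ g.unop.left T.unop.hom T'.unop.hom
      (Over.w g.unop) (cokernel.π ((equivShrink _).symm K.1).arrow))), by
    haveI := epi_pullQ g.unop.left T.unop.hom T'.unop.hom (Over.w g.unop)
      (cokernel.π ((equivShrink _).symm K.1).arrow)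
    exact (ConsPropLib.isFinLocFreeOfRank_iso (sameQ_symm_apply _).choose).1
      (KRRReg.isFinLocFreeOfRank_pullback _ K.2)⟩
  map_id T := by
    refine ConcreteCategory.hom_ext _ _ fun K => Subtype.ext ?_
    show equivShrink _ (kernelSubobject (pullQ (𝟙 T.unop.left) T.unop.hom T.unop.hom (Category.id_comp _)
      (cokernel.π ((equivShrink _).symm K.1).arrow))) = K.1
    rw [← Equiv.eq_symm_apply (equivShrink _)]
    haveI := epi_pullQ (𝟙 T.unop.left) T.unop.hom T.unop.hom (Category.id_comp _)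
      (cokernel.π ((equivShrink _).symm K.1).arrow)
    exact (kernelSubobject_eq_iff _ _).2 (sameQ_pullQ_id _ _)
  map_comp {T T' T''} g g' := by
    refine ConcreteCategory.hom_ext _ _ fun K => Subtype.ext ?_
    show equivShrink _ (kernelSubobject (pullQ (g'.unop.left ≫ g.unop.left) T.unop.hom T''.unop.hom
        (Over.w (g'.unop ≫ g.unop)) _)) = equivShrink _ (kernelSubobject (pullQ g'.unop.left T'.unop.hom T''.unop.hom
      (Over.w g'.unop) (cokernel.π ((equivShrink _).symm (equivShrink _ (kernelSubobject (pullQ g.unop.left T.unop.hom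
        T'.unop.hom (Over.w g.unop) _)))).arrow)))
    rw [Equiv.symm_apply_apply]
    refine congrArg _ ?_
    let κ := cokernel.π ((equivShrink _).symm K.1).arrow
    haveI := epi_pullQ g.unop.left T.unop.hom T'.unop.hom (Over.w g.unop) κ
    haveI := epi_pullQ (g'.unop.left ≫ g.unop.left) T.unop.hom T''.unop.hom (Over.w (g'.unop ≫ g.unop)) κ
    haveI := epi_pullQ g'.unop.left T'.unop.hom T''.unop.hom (Over.w g'.unop)
      (cokernel.π (kernelSubobject (pullQ g.unop.left T.unop.hom T'.unop.hom (Over.w g.unop) κ)).arrow)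
    refine (kernelSubobject_eq_iff _ _).2 (SameQ.trans (SameQ.trans ?_ (SameQ.pullQ _ _ _
      (sameQ_kernelSubobject (pullQ g.unop.left T.unop.hom T'.unop.hom (Over.w g.unop) κ)))) (sameQ_kernelSubobject _))
    exact (sameQ_pullQ_pullQ g'.unop.left g.unop.left T.unop.hom T'.unop.hom (Over.w g.unop) T''.unop.hom
      (Over.w g'.unop) (g'.unop.left ≫ g.unop.left) rfl κ).symm

variable {E r}

/-- The kernel recorded by a section. -/
abbrev sub {T : Over X} (φ : (GFun E r).obj (op T)) : Subobject ((Scheme.Modules.pullback T.hom).obj E) :=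
  (equivShrink _).symm φ.1

/-- The quotient recorded by a section. -/
abbrev quot {T : Over X} (φ : (GFun E r).obj (op T)) :
    (Scheme.Modules.pullback T.hom).obj E ⟶ cokernel (sub φ).arrow :=
  cokernel.π (sub φ).arrow

/-- A section from a quotient. -/
def mkQ (T : Over X) {L : T.left.Modules} (hL : FlatMod.IsFinLocFreeOfRank r L)
    (s : (Scheme.Modules.pullback T.hom).obj E ⟶ L) [Epi s] : (GFun E r).obj (op T) :=
  ⟨equivShrink _ (kernelSubobject s),
    (ConsPropLib.isFinLocFreeOfRank_iso (sameQ_symm_apply s).choose).1 hL⟩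

theorem quot_mkQ (T : Over X) {L : T.left.Modules} (hL : FlatMod.IsFinLocFreeOfRank r L)
    (s : (Scheme.Modules.pullback T.hom).obj E ⟶ L) [Epi s] : SameQ s (quot (mkQ T hL s)) := sameQ_symm_apply s

theorem eq_iff_sameQ {T : Over X} (φ ψ : (GFun E r).obj (op T)) : φ = ψ ↔ SameQ (quot φ) (quot ψ) := by
  refine ⟨fun h => h ▸ ⟨Iso.refl _, Category.comp_id _⟩, fun h => ?_⟩
  refine Subtype.ext ((equivShrink _).symm.injective ?_)
  exact ((kernelSubobject_eq_iff (quot φ) _).2 ⟨Iso.refl _, Category.comp_id _⟩).symm.trans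
    ((kernelSubobject_eq_iff (quot φ) _).2 h)

theorem res_eq_iff {T T' : Over X} (g : T' ⟶ T) (φ : (GFun E r).obj (op T)) (ψ : (GFun E r).obj (op T')) :
    RepLocal.res (GFun E r) g φ = ψ ↔ SameQ (pullQ g.left T.hom T'.hom (Over.w g) (quot φ)) (quot ψ) := by
  haveI := epi_pullQ g.left T.hom T'.hom (Over.w g) (quot φ)
  exact (Subtype.ext_iff.trans ((Equiv.apply_eq_iff_eq_symm_apply _).trans Iff.rfl)).trans
    (kernelSubobject_eq_iff _ _)

theorem sameQ_res {T T' : Over X} (g : T' ⟶ T) (φ : (GFun E r).obj (op T)) :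
    SameQ (pullQ g.left T.hom T'.hom (Over.w g) (quot φ)) (quot (RepLocal.res (GFun E r) g φ)) :=
  (res_eq_iff g φ _).1 rfl

theorem sameQ_quot_of_res {T T' : Over X} (g : T' ⟶ T) (φ ψ : (GFun E r).obj (op T))
    (h : RepLocal.res (GFun E r) g φ = RepLocal.res (GFun E r) g ψ) :
    SameQ (pullQ g.left T.hom T'.hom (Over.w g) (quot φ)) (pullQ g.left T.hom T'.hom (Over.w g) (quot ψ)) :=
  ((res_eq_iff g φ _).1 h).trans (sameQ_res g ψ).symm

/-- Rank-`r` quotients form a Zariski sheaf. -/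
theorem isLocal_GFun : RepLocal.IsLocal (GFun E r) where
  ext T κ U hU φ ψ h := by
    refine (eq_iff_sameQ φ ψ).2 (sameQ_of_pullQ_local fun x => ?_)
    obtain ⟨k, hk⟩ := hU x
    exact ⟨_, (U k).ι, inferInstance, ⟨⟨x, hk⟩, rfl⟩, sameQ_quot_of_res (RepLocal.opIncl T (U k)) φ ψ (h k)⟩
  glue T κ U hU φ h := by
    let a := fun k => (U k).ι
    let τ := fun k => (LimMod.trIso (a k) T.hom (RepLocal.opOver T (U k)).hom rfl).app E
    let q : ∀ k, (Scheme.Modules.pullback (a k)).obj ((Scheme.Modules.pullback T.hom).obj E) ⟶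
        cokernel (sub (φ k)).arrow := fun k => (τ k).hom ≫ quot (φ k)
    haveI : ∀ k, Epi (q k) := fun k => epi_comp _ _
    have hfp : ∀ k, CohB1.IsFP (cokernel (sub (φ k)).arrow) := fun k =>
      QCoh.isFP_of_isFinLocFree fun x => by
        obtain ⟨W, hx, e⟩ := (φ k).2 x
        exact ⟨W, r, hx, e⟩
    have hcov : ∀ x, ∃ k, x ∈ Set.range (a k) := fun x =>
      let ⟨k, hk⟩ := hU x; ⟨k, ⟨x, hk⟩, rfl⟩
    have conv : ∀ k {R : Scheme.{u}} (j : R ⟶ U k) (c : R ⟶ T.left) (hc : j ≫ a k = c),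
        pullQ j (a k) c hc (q k) = (LimMod.trIso c T.hom (c ≫ T.hom) rfl).hom.app E ≫
          pullQ j (RepLocal.opOver T (U k)).hom (c ≫ T.hom)
            (by rw [← hc]; exact (Category.assoc _ _ _).symm) (quot (φ k)) :=
      fun k {R} j c hc => pullQ_tr j (a k) c hc T.hom _ rfl (c ≫ T.hom) rfl (quot (φ k))
    have hc : ∀ k l, SameQ (pullQ (pullback.fst (a k) (a l)) (a k) (pullback.fst (a k) (a l) ≫ a k) rfl (q k))
        (pullQ (pullback.snd (a k) (a l)) (a l) (pullback.fst (a k) (a l) ≫ a k) pullback.condition.symm (q l)) := by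
      intro k l
      let j₁ := pullback.fst (a k) (a l)
      let j₂ := pullback.snd (a k) (a l)
      let c := j₁ ≫ a k
      have hr : Set.range c ⊆ Set.range (U k ⊓ U l).ι := by
        rintro _ ⟨z, rfl⟩
        rw [Scheme.Opens.range_ι]
        refine ⟨(j₁ z).2, ?_⟩
        show c z ∈ U l
        rw [show c = j₂ ≫ a l from pullback.condition, Scheme.Hom.comp_apply]
        exact (j₂ z).2
      let ρ := IsOpenImmersion.lift (U k ⊓ U l).ι c hr
      have hρ : ρ ≫ (U k ⊓ U l).ι = c := IsOpenImmersion.lift_fac _ _ _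
      have hm₁ : ρ ≫ T.left.homOfLE (inf_le_left : U k ⊓ U l ≤ U k) = j₁ := by
        rw [← cancel_mono (U k).ι, Category.assoc, Scheme.homOfLE_ι, hρ]
      have hm₂ : ρ ≫ T.left.homOfLE (inf_le_right : U k ⊓ U l ≤ U l) = j₂ := by
        rw [← cancel_mono (U l).ι, Category.assoc, Scheme.homOfLE_ι, hρ]
        exact pullback.condition
      have hρT : ρ ≫ (RepLocal.opOver T (U k ⊓ U l)).hom = c ≫ T.hom := by
        show ρ ≫ (U k ⊓ U l).ι ≫ T.hom = _
        rw [← Category.assoc, hρ]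
      have s₀ := (sameQ_res (RepLocal.opMap T (inf_le_left : U k ⊓ U l ≤ U k)) (φ k)).trans
        (h k l ▸ (sameQ_res (RepLocal.opMap T (inf_le_right : U k ⊓ U l ≤ U l)) (φ l)).symm)
      have s₁ := SameQ.pullQ ρ (c ≫ T.hom) hρT s₀
      obtain ⟨e, he⟩ := (sameQ_pullQ_pullQ ρ _ (RepLocal.opOver T (U k)).hom _ (Over.w (RepLocal.opMap T (inf_le_left : U k ⊓ U l ≤ U k))) (c ≫ T.hom) hρT j₁ hm₁
        (quot (φ k))).symm.trans (s₁.trans (sameQ_pullQ_pullQ ρ _ (RepLocal.opOver T (U l)).hom _ (Over.w (RepLocal.opMap T (inf_le_right : U k ⊓ U l ≤ U l)))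
          (c ≫ T.hom) hρT j₂ hm₂ (quot (φ l))))
      refine ⟨e, ?_⟩
      rw [conv k j₁ c rfl, conv l j₂ c pullback.condition.symm, Category.assoc, he]
    obtain ⟨G, p, hp, -, hG⟩ := exists_glue_quot a hcov (fun k => cokernel (sub (φ k)).arrow) q hfp hc
    haveI := hp
    have hGr : FlatMod.IsFinLocFreeOfRank r G :=
      ConsPropLib.isFinLocFreeOfRank_of_cover a hcov fun k => (ConsPropLib.isFinLocFreeOfRank_iso
        ((hG k).choose.symm ≪≫ ((Scheme.Modules.restrictFunctorIsoPullback (a k)).app G).symm)).1 (φ k).2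
    refine ⟨mkQ T hGr p, fun k => (res_eq_iff _ _ _).2 ?_⟩
    refine (SameQ.pullQ _ _ _ (quot_mkQ T hGr p).symm).trans ?_
    obtain ⟨e, he⟩ := hG k
    refine ⟨e, ?_⟩
    show ((τ k).inv ≫ (Scheme.Modules.pullback (a k)).map p) ≫ e.hom = quot (φ k)
    rw [Category.assoc, he]
    exact Iso.inv_hom_id_assoc _ _

/-- A representing object of the functor of quotients is a Grassmannian. -/
theorem isGrass_of_univ {M : Over X} {ξ : (GFun E r).obj (op M)}
    (h : ∀ (T : Over X) (φ : (GFun E r).obj (op T)), ∃! v : T ⟶ M, RepLocal.res (GFun E r) v ξ = φ) :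
    Grass.IsGrass M.hom E r (cokernel (sub ξ).arrow) (quot ξ) := by
  refine isGrass_mk ξ.2 inferInstance fun T g L hL s hs => ?_
  haveI := hs
  obtain ⟨v, hv, huniq⟩ := h (Over.mk g) (mkQ (Over.mk g) hL s)
  refine ⟨v.left, ⟨Over.w v, ((res_eq_iff v ξ _).1 hv).trans (quot_mkQ (Over.mk g) hL s).symm⟩, ?_⟩
  rintro h' ⟨hg, hs'⟩
  exact congrArg CommaMorphism.left (huniq (Over.homMk h' hg)
    ((res_eq_iff _ ξ _).2 (hs'.trans (quot_mkQ (Over.mk g) hL s))))

/-- A Grassmannian represents the functor of quotients. -/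
theorem isUniv_of_isGrass (hG : Grass.IsGrass π E r Q q) (T : Over X) (φ : (GFun E r).obj (op T)) :
    haveI := hG.epi
    ∃! v : T ⟶ Over.mk π, RepLocal.res (GFun E r) v (mkQ (Over.mk π) hG.rank q) = φ := by
  haveI := hG.epi
  obtain ⟨h, ⟨hg, hs⟩, huniq⟩ := existsUnique_class hG φ.2 (quot φ)
  refine ⟨Over.homMk h hg, (res_eq_iff _ _ _).2
    ((SameQ.pullQ _ _ _ (quot_mkQ (Over.mk π) hG.rank q).symm).trans hs), fun v hv => ?_⟩
  refine Over.OverMorphism.ext (huniq v.left ⟨Over.w v, ?_⟩)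
  exact (SameQ.pullQ _ _ _ (quot_mkQ (Over.mk π) hG.rank q)).trans ((res_eq_iff _ _ _).1 hv)

end Groth.Agent.GrassSch

end
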