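import Groth.Agent.GrassSch.Model
import Groth.Agent.QCoh.LocFree

/-!
# Grassmannian bundles of locally free modules
-/

set_option autoImplicit false
set_option linter.style.haveILetI false
set_option linter.unusedSectionVars false
set_option backward.isDefEq.respectTransparency false
set_option backward.isDefEq.respectTransparency.types false
set_option maxHeartbeats 1000000
set_option synthInstance.maxHeartbeats 400000

universe u

open CategoryTheory CategoryTheory.Limits AlgebraicGeometry TopologicalSpace Opposite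

attribute [-instance] CategoryTheory.catToReflQuiver

noncomputable section

namespace Groth.Agent.GrassSch

open Groth.Agent Groth.Agent.QuotRep

variable {X G : Scheme.{u}} {π : G ⟶ X} {E : X.Modules} {r : ℕ} {Q : G.Modules}
  {q : (Scheme.Modules.pullback π).obj E ⟶ Q}

/-- A Grassmannian of isomorphic modules. -/
theorem isGrass_of_iso (hG : Grass.IsGrass π E r Q q) {E' : X.Modules} (e : E' ≅ E) :
    Grass.IsGrass π E' r Q ((Scheme.Modules.pullback π).map e.hom ≫ q) := by
  haveI := hG.epi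
  refine isGrass_mk hG.rank (epi_comp _ _) fun T g L hL s hs => ?_
  haveI := hs
  let s₀ := (Scheme.Modules.pullback g).map e.inv ≫ s
  haveI : Epi s₀ := epi_comp _ _
  obtain ⟨h, ⟨hh, hhs⟩, huniq⟩ := existsUnique_class hG hL s₀
  have hs₀ : (Scheme.Modules.pullback g).map e.hom ≫ s₀ = s := by
    rw [← Category.assoc, ← Functor.map_comp, e.hom_inv_id, CategoryTheory.Functor.map_id, Category.id_comp]
  refine ⟨h, ⟨hh, ?_⟩, ?_⟩
  · rw [← map_comp_pullQ, ← hs₀]
    exact SameQ.comp _ hhs
  · rintro y ⟨hy, hys⟩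
    refine huniq y ⟨hy, sameQ_of_comp ((Scheme.Modules.pullback g).map e.hom) ?_⟩
    rw [map_comp_pullQ, hs₀]
    exact hys

/-- Grassmannians commute with base change. -/
theorem isGrass_baseChange (hG : Grass.IsGrass π E r Q q) {V : Scheme.{u}} (j : V ⟶ X) :
    ∃ q' : (Scheme.Modules.pullback (pullback.snd π j)).obj ((Scheme.Modules.pullback j).obj E) ⟶
        (Scheme.Modules.pullback (pullback.fst π j)).obj Q,
      Grass.IsGrass (pullback.snd π j) ((Scheme.Modules.pullback j).obj E) r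
        ((Scheme.Modules.pullback (pullback.fst π j)).obj Q) q' := by
  haveI := hG.epi
  let a := pullback.fst π j
  let b := pullback.snd π j
  let c := a ≫ π
  haveI : Epi (pullQ a π c rfl q) := epi_pullQ _ _ _ _ _
  let τ₀ := (LimMod.trIso b j c pullback.condition.symm).app E
  refine ⟨τ₀.hom ≫ pullQ a π c rfl q, isGrass_mk (KRRReg.isFinLocFreeOfRank_pullback a hG.rank) (epi_comp _ _)
    fun T g L hL s hs => ?_⟩
  haveI := hs
  let τ := (LimMod.trIso g j (g ≫ j) rfl).app E
  haveI : Epi (τ.inv ≫ s) := epi_comp _ _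
  obtain ⟨h₀, ⟨hh, hhs⟩, huniq⟩ := existsUnique_class hG hL (τ.inv ≫ s)
  have key : ∀ (y : T ⟶ pullback π j) (hy : y ≫ b = g) (hy' : y ≫ c = g ≫ j),
      pullQ y b g hy (τ₀.hom ≫ pullQ a π c rfl q) = τ.hom ≫ pullQ y c (g ≫ j) hy' (pullQ a π c rfl q) :=
    fun y hy hy' => pullQ_tr y b g hy j c pullback.condition.symm (g ≫ j) rfl _
  refine ⟨pullback.lift h₀ g hh, ⟨pullback.lift_snd _ _ _, ?_⟩, ?_⟩
  · have hy' : pullback.lift h₀ g hh ≫ c = g ≫ j := by rw [← Category.assoc, pullback.lift_fst]; exact hh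
    rw [key _ (pullback.lift_snd _ _ _) hy']
    have h1 := (sameQ_pullQ_pullQ (pullback.lift h₀ g hh) a π c rfl (g ≫ j) hy' h₀ (pullback.lift_fst _ _ _) q).trans hhs
    have h2 := SameQ.comp τ.hom h1
    rwa [τ.hom_inv_id_assoc] at h2
  · rintro y ⟨hy, hys⟩
    have hy' : y ≫ c = g ≫ j := by rw [← hy, Category.assoc, ← pullback.condition]
    rw [key y hy hy'] at hys
    have h1 : y ≫ a = h₀ := huniq (y ≫ a) ⟨by rw [Category.assoc]; exact hy', ?_⟩
    · exact pullback.hom_ext (by rw [pullback.lift_fst]; exact h1) (by rw [pullback.lift_snd]; exact hy)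
    · have h2 : SameQ (pullQ y c (g ≫ j) hy' (pullQ a π c rfl q)) (τ.inv ≫ s) :=
        sameQ_of_comp τ.hom (by rw [τ.hom_inv_id_assoc]; exact hys)
      exact (sameQ_pullQ_pullQ y a π c rfl (g ≫ j) hy' (y ≫ a) rfl q).symm.trans h2

/-- Local structure of the Grassmannian bundle of a locally free module. -/
theorem exists_local_model (hG : Grass.IsGrass π E r Q q) {N : ℕ} (hE : FlatMod.IsFinLocFreeOfRank N E)
    (hr : r ≤ N) (x : X) :
    ∃ (B : CommRingCat.{u}) (j : Spec B ⟶ X), IsOpenImmersion j ∧ x ∈ Set.range j ∧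
      SmoothOfRelativeDimension (r * (N - r)) (pullback.snd π j) ∧ IsProper (pullback.snd π j) ∧
        Surjective (pullback.snd π j) ∧ (IrreducibleSpace (Spec B) → IrreducibleSpace (pullback π j : Scheme.{u})) := by
  obtain ⟨U, hx, ⟨e⟩⟩ := hE x
  obtain ⟨V, hV, hxV, hle⟩ := exists_isAffineOpen_mem_and_subset hx
  let j : Spec Γ(X, V) ⟶ X := hV.fromSpec
  let ε : FlatMod.freeMod (Spec Γ(X, V)) N ≅ (Scheme.Modules.pullback j).obj E :=
    (QCoh.freeChart hV hle e).symm ≪≫ (Scheme.Modules.restrictFunctorIsoPullback j).app E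
  obtain ⟨q', hP⟩ := isGrass_baseChange hG j
  have hP' := isGrass_of_iso hP ε
  obtain ⟨G₀, p, Q₀, q₀, h₀, hsm, hpr, hsu, hir⟩ := exists_model Γ(X, V) N r hr
  haveI := hP'.epi
  obtain ⟨φ, hφ, -⟩ := existsUnique_class h₀ hP'.rank ((Scheme.Modules.pullback (pullback.snd π j)).map ε.hom ≫ q')
  haveI := isIso_of_isClass hP' h₀ hφ
  refine ⟨_, j, inferInstance, hV.range_fromSpec.ge hxV, ?_, ?_, ?_, fun h => ?_⟩
  · rw [← hφ.1]
    exact (MorphismProperty.cancel_left_of_respectsIso (@SmoothOfRelativeDimension (r * (N - r))) φ p).mpr hsm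
  · rw [← hφ.1]
    exact (MorphismProperty.cancel_left_of_respectsIso @IsProper φ p).mpr hpr
  · rw [← hφ.1]
    exact (MorphismProperty.cancel_left_of_respectsIso @Surjective φ p).mpr hsu
  · exact (asIso φ).hom.homeomorph.irreducibleSpace_iff.2 (hir h)

/-- A Grassmannian bundle is smooth, proper and surjective, and irreducible over an irreducible base. -/
theorem geometry (hG : Grass.IsGrass π E r Q q) {N : ℕ} (hE : FlatMod.IsFinLocFreeOfRank N E) (hr : r ≤ N) :
    SmoothOfRelativeDimension (r * (N - r)) π ∧ IsProper π ∧ Surjective π ∧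
      (IrreducibleSpace X → IrreducibleSpace G) := by
  choose B j hj hx hsm hpr hsu hir using exists_local_model hG hE hr
  haveI := hj
  let 𝒰 : X.OpenCover :=
    { I₀ := X
      X := fun x => Spec (B x)
      f := j
      mem₀ := by
        rw [Scheme.ofArrows_mem_precoverage_iff]
        exact ⟨fun x => ⟨x, hx x⟩, hj⟩ }
  have hs : Surjective π := IsZariskiLocalAtTarget.of_openCover 𝒰 hsu
  refine ⟨IsZariskiLocalAtTarget.of_openCover 𝒰 hsm, IsZariskiLocalAtTarget.of_openCover 𝒰 hpr, hs, fun hX => ?_⟩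
  let U := fun x => (pullback.fst π (j x)).opensRange
  have hirr : ∀ x, IrreducibleSpace (U x) := fun x => by
    haveI : Nonempty (Spec (B x)) := ⟨(hx x).choose⟩
    haveI := hir x ((j x).isOpenEmbedding.irreducibleSpace)
    exact (pullback.fst π (j x)).isoOpensRange.hom.homeomorph.irreducibleSpace_iff.1 inferInstance
  have hmem : ∀ (x : X) (y : G), π y ∈ Set.range (j x) → y ∈ U x := fun x y ⟨z, hz⟩ =>
    let ⟨w, hw, _⟩ := Scheme.Pullback.exists_preimage_pullback y z hz.symm
    ⟨w, hw⟩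
  have hcov : IsOpenCover U := top_le_iff.1 fun y _ => Opens.mem_iSup.2 ⟨π y, hmem _ _ (hx (π y))⟩
  haveI := PreirreducibleSpace.of_isOpenCover (U := U) (fun x x' _ h => by
    obtain ⟨z, hz, hz'⟩ := nonempty_preirreducible_inter (j x).isOpenEmbedding.isOpen_range
      (j x').isOpenEmbedding.isOpen_range ⟨x, hx x⟩ ⟨x', hx x'⟩
    obtain ⟨y, rfl⟩ := hs.surj z
    exact ((disjoint_iff.1 h).le (show y ∈ U x ⊓ U x' from ⟨hmem x y hz, hmem x' y hz'⟩)).elim)
    hcov fun x => (hirr x).toPreirreducibleSpace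
  obtain ⟨x⟩ := hX.toNonempty
  obtain ⟨y, -⟩ := hs.surj x
  exact ⟨⟨y⟩⟩

end Groth.Agent.GrassSch

end
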