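import Groth.Agent.GrassSch.Vanish

/-!
# The Grassmannian of a quotient module is a closed subscheme
-/

set_option autoImplicit false
set_option linter.style.haveILetI false
set_option linter.unusedSectionVars false
set_option backward.isDefEq.respectTransparency false
set_option backward.isDefEq.respectTransparency.types false
set_option maxHeartbeats 1000000
set_option synthInstance.maxHeartbeats 400000

universe u

open CategoryTheory CategoryTheory.Limits AlgebraicGeometry TopologicalSpace Opposite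

attribute [-instance] CategoryTheory.catToReflQuiver

noncomputable section

namespace Groth.Agent.GrassSch

open Groth.Agent Groth.Agent.QuotRep

variable {X G T : Scheme.{u}} {π : G ⟶ X} {E : X.Modules} {r : ℕ} {Q : G.Modules}
  {q : (Scheme.Modules.pullback π).obj E ⟶ Q}

theorem map_comp_pullQ {E' : X.Modules} (v : E' ⟶ E) {P P' : Scheme.{u}} (a' : P' ⟶ P) (a : P ⟶ X) (c : P' ⟶ X)
    (h : a' ≫ a = c) {F : P.Modules} (p : (Scheme.Modules.pullback a).obj E ⟶ F) :
    (Scheme.Modules.pullback c).map v ≫ pullQ a' a c h p = pullQ a' a c h ((Scheme.Modules.pullback a).map v ≫ p) := by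
  rw [pullQ, pullQ, Functor.map_comp, ← Category.assoc, ← Category.assoc]
  refine congrArg (fun t => t ≫ (Scheme.Modules.pullback a').map p) ?_
  exact (LimMod.trIso a' a c h).inv.naturality v

/-- A classified point composed with a morphism classifies the pulled back quotient. -/
theorem IsClass.comp {g : T ⟶ X} {L : T.Modules} {s : (Scheme.Modules.pullback g).obj E ⟶ L} {h : T ⟶ G}
    (hc : IsClass π q s h) {T' : Scheme.{u}} (k : T' ⟶ T) (g' : T' ⟶ X) (hk : k ≫ g = g') :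
    IsClass π q (pullQ k g g' hk s) (k ≫ h) := by
  obtain ⟨hg, hs⟩ := hc
  exact ⟨by rw [Category.assoc, hg, hk],
    (sameQ_pullQ_pullQ k h π g hg g' hk (k ≫ h) rfl q).symm.trans (SameQ.pullQ k g' hk hs)⟩

theorem isClass_self [Epi q] : IsClass π q q (𝟙 G) := ⟨Category.id_comp π, sameQ_pullQ_id π q⟩

/-- Two Grassmannians of the same module are isomorphic. -/
theorem isIso_of_isClass {G' : Scheme.{u}} {π' : G' ⟶ X} {Q' : G'.Modules}
    {q' : (Scheme.Modules.pullback π').obj E ⟶ Q'} (hG : Grass.IsGrass π E r Q q)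
    (hG' : Grass.IsGrass π' E r Q' q') {h : G ⟶ G'} (hc : IsClass π' q' q h) : IsIso h := by
  haveI := hG.epi; haveI := hG'.epi
  obtain ⟨k, hk, -⟩ := existsUnique_class hG hG'.rank q'
  have h1 := hc.comp k π' hk.1
  have h2 := hk.comp h π hc.1
  refine ⟨k, ?_, ?_⟩
  · exact (existsUnique_class hG hG.rank q).unique (h2.of_sameQ hc.2) isClass_self
  · exact (existsUnique_class hG' hG'.rank q').unique (h1.of_sameQ hk.2) isClass_self

/-- The Grassmannian of a quotient module inside the one of the module. -/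
theorem exists_isGrass_of_epi (hG : Grass.IsGrass π E r Q q) {E₂ : X.Modules} (hE : Coh.IsQCoh E)
    (hE₂ : Coh.IsQCoh E₂) (v : E ⟶ E₂) [Epi v] :
    ∃ (Z : Scheme.{u}) (ι : Z ⟶ G) (Q₂ : Z.Modules) (q₂ : (Scheme.Modules.pullback (ι ≫ π)).obj E₂ ⟶ Q₂),
      IsClosedImmersion ι ∧ Grass.IsGrass (ι ≫ π) E₂ r Q₂ q₂ ∧
        SameQ (pullQ ι π (ι ≫ π) rfl q) ((Scheme.Modules.pullback (ι ≫ π)).map v ≫ q₂) := by
  haveI := hG.epi
  let K := kernel v
  let u : (Scheme.Modules.pullback π).obj K ⟶ Q := (Scheme.Modules.pullback π).map (kernel.ι v) ≫ q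
  obtain ⟨Z, ι, hι, hZ⟩ := exists_vanish (QCoh.isQCoh_pullback π (QCoh.isQCoh_kernel hE hE₂ v))
    (fun x => let ⟨U, hx, e⟩ := hG.rank x; ⟨U, r, hx, e⟩) u
  have hu : ∀ {T : Scheme.{u}} (x : T ⟶ G) (g : T ⟶ X) (hx : x ≫ π = g),
      (Scheme.Modules.pullback g).map (kernel.ι v) ≫ pullQ x π g hx q = 0 ↔ (Scheme.Modules.pullback x).map u = 0 := by
    intro T x g hx
    rw [map_comp_pullQ, pullQ]
    exact ⟨fun h => by rwa [← cancel_epi ((LimMod.trIso x π g hx).inv.app K), comp_zero],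
      fun h => by rw [show (Scheme.Modules.pullback x).map ((Scheme.Modules.pullback π).map (kernel.ι v) ≫ q) = 0 from h,
        comp_zero]⟩
  haveI := (Scheme.Modules.pullbackPushforwardAdjunction (ι ≫ π)).isLeftAdjoint
  let π₂ := ι ≫ π
  let t := pullQ ι π π₂ rfl q
  haveI : Epi t := epi_pullQ _ _ _ _ _
  have ht : (Scheme.Modules.pullback π₂).map (kernel.ι v) ≫ t = 0 :=
    (hu ι π₂ rfl).2 ((hZ ι).2 ⟨𝟙 Z, Category.id_comp ι⟩)
  obtain ⟨q₂, hq₂⟩ := CokernelCofork.IsColimit.desc' (CokernelCofork.mapIsColimit _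
    (Abelian.epiIsCokernelOfKernel (KernelFork.ofι (kernel.ι v) (kernel.condition v)) (kernelIsKernel v))
      (Scheme.Modules.pullback π₂)) t ht
  replace hq₂ : (Scheme.Modules.pullback π₂).map v ≫ q₂ = t := hq₂
  haveI : Epi ((Scheme.Modules.pullback π₂).map v ≫ q₂) := by rw [hq₂]; infer_instance
  have hq₂e : Epi q₂ := epi_of_epi ((Scheme.Modules.pullback π₂).map v) q₂
  haveI := hι
  refine ⟨Z, ι, (Scheme.Modules.pullback ι).obj Q, q₂, hι, isGrass_mk
    (KRRReg.isFinLocFreeOfRank_pullback ι hG.rank) hq₂e fun T g L hL s hs => ?_, ⟨Iso.refl _, by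
      rw [hq₂]; exact Category.comp_id _⟩⟩
  haveI := hs
  haveI : Epi ((Scheme.Modules.pullback g).map v) := Grass.epi_pullback_map g v
  let s' := (Scheme.Modules.pullback g).map v ≫ s
  haveI : Epi s' := epi_comp _ _
  obtain ⟨x, ⟨hx, e, he⟩, huniq⟩ := existsUnique_class hG hL s'
  have hx0 : (Scheme.Modules.pullback x).map u = 0 := (hu x g hx).1 (by
    rw [← cancel_mono e.hom, Category.assoc, he, ← Category.assoc, ← Functor.map_comp, kernel.condition,
      Functor.map_zero, zero_comp, zero_comp])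
  obtain ⟨z, hz⟩ := (hZ x).1 hx0
  have hzg : z ≫ π₂ = g := by rw [← hx, ← hz, Category.assoc]
  have hpull : ∀ (y : T ⟶ Z) (hy : y ≫ π₂ = g), SameQ ((Scheme.Modules.pullback g).map v ≫ pullQ y π₂ g hy q₂)
      (pullQ (y ≫ ι) π g (by rw [Category.assoc]; exact hy) q) := fun y hy => by
    rw [map_comp_pullQ, hq₂]
    exact sameQ_pullQ_pullQ y ι π π₂ rfl g hy (y ≫ ι) rfl q
  refine ⟨z, ⟨hzg, sameQ_of_comp ((Scheme.Modules.pullback g).map v) ((hpull z hzg).trans ?_)⟩, ?_⟩
  · exact (sameQ_pullQ_congr hz π g (by rw [Category.assoc]; exact hzg) hx q).trans ⟨e, he⟩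
  · rintro y ⟨hy, hys⟩
    have h1 : y ≫ ι = x := huniq (y ≫ ι) ⟨by rw [Category.assoc]; exact hy,
      (hpull y hy).symm.trans (SameQ.comp _ hys)⟩
    rw [← cancel_mono ι, h1, hz]

/-- The morphism of Grassmannians of an epimorphism of quasi-coherent modules is a closed immersion. -/
theorem isClosedImmersion_of_isClass {E₂ : X.Modules} (hE : Coh.IsQCoh E) (hE₂ : Coh.IsQCoh E₂) (v : E ⟶ E₂)
    [Epi v] (hG : Grass.IsGrass π E r Q q) {G₂ : Scheme.{u}} {π₂ : G₂ ⟶ X} {Q₂ : G₂.Modules}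
    {q₂ : (Scheme.Modules.pullback π₂).obj E₂ ⟶ Q₂} (hG₂ : Grass.IsGrass π₂ E₂ r Q₂ q₂) {h : G₂ ⟶ G}
    (hc : IsClass π q ((Scheme.Modules.pullback π₂).map v ≫ q₂) h) : IsClosedImmersion h := by
  haveI := hG₂.epi; haveI := hG.epi
  obtain ⟨Z, ι, QZ, qZ, hι, hZ, hcomp⟩ := exists_isGrass_of_epi hG hE hE₂ v
  obtain ⟨φ, hφ, -⟩ := existsUnique_class hZ hG₂.rank q₂
  haveI := isIso_of_isClass hG₂ hZ hφ
  haveI := hι
  haveI : Epi ((Scheme.Modules.pullback π₂).map v) := Grass.epi_pullback_map π₂ v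
  haveI : Epi ((Scheme.Modules.pullback π₂).map v ≫ q₂) := epi_comp _ _
  have h1 : IsClass π q ((Scheme.Modules.pullback π₂).map v ≫ q₂) (φ ≫ ι) := by
    obtain ⟨hg, hs⟩ := hφ
    refine ⟨by rw [Category.assoc]; exact hg, SameQ.trans ?_ (SameQ.comp _ hs)⟩
    rw [map_comp_pullQ]
    exact (sameQ_pullQ_pullQ φ ι π (ι ≫ π) rfl π₂ hg (φ ≫ ι) rfl q).symm.trans (SameQ.pullQ φ π₂ hg hcomp)
  rw [(existsUnique_class hG hG₂.rank _).unique hc h1]
  infer_instance

end Groth.Agent.GrassSch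

end
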