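import Groth.Agent.GrassSch.Epi

/-!
# Flag schemes
-/

set_option autoImplicit false
set_option linter.style.haveILetI false
set_option linter.unusedSectionVars false
set_option backward.isDefEq.respectTransparency false
set_option backward.isDefEq.respectTransparency.types false
set_option maxHeartbeats 1000000
set_option synthInstance.maxHeartbeats 400000

universe u

open CategoryTheory CategoryTheory.Limits AlgebraicGeometry TopologicalSpace Opposite

attribute [-instance] CategoryTheory.catToReflQuiver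

noncomputable section

namespace Groth.Agent.GrassSch

open Groth.Agent Groth.Agent.QuotRep

variable {X : Scheme.{u}} {E : X.Modules}

/-- Composing quotients along a tower. -/
theorem pullQ_tower {T F' F : Scheme.{u}} (h : T ⟶ F') (a : F' ⟶ F) (g : T ⟶ F) (hg : h ≫ a = g) (π : F ⟶ X)
    (π' : F' ⟶ X) (ha : a ≫ π = π') (c : T ⟶ X) (hc : g ≫ π = c) (hc' : h ≫ π' = c) {Q : F.Modules}
    (q : (Scheme.Modules.pullback π).obj E ⟶ Q) {Q' : F'.Modules}
    (qG : (Scheme.Modules.pullback a).obj Q ⟶ Q') :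
    pullQ g π c hc q ≫ pullQ h a g hg qG = pullQ h π' c hc' (pullQ a π π' ha q ≫ qG) := by
  rw [← cancel_epi ((LimMod.trIso g π c hc).hom.app E),
    ← pullQ_tr h a g hg π π' ha c hc (pullQ a π π' ha q ≫ qG)]
  have e1 : (LimMod.trIso a π π' ha).hom.app E ≫ pullQ a π π' ha q ≫ qG = (Scheme.Modules.pullback a).map q ≫ qG := by
    simp [pullQ]
  have e2 : (LimMod.trIso g π c hc).hom.app E ≫ pullQ g π c hc q = (Scheme.Modules.pullback g).map q := by
    simp [pullQ]
  rw [e1, ← Category.assoc, e2]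
  exact map_comp_pullQ q h a g hg qG

theorem SameQ.refl {P : Scheme.{u}} {B F : P.Modules} (π : B ⟶ F) : SameQ π π := ⟨Iso.refl _, Category.comp_id _⟩

/-- Pullback of quotients commutes with composition of quotient maps. -/
theorem pullQ_comp_map {T G : Scheme.{u}} (h : T ⟶ G) (π : G ⟶ X) (g : T ⟶ X) (hg : h ≫ π = g) {Q Q' : G.Modules}
    (q : (Scheme.Modules.pullback π).obj E ⟶ Q) (t : Q ⟶ Q') :
    pullQ h π g hg (q ≫ t) = pullQ h π g hg q ≫ (Scheme.Modules.pullback h).map t := by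
  rw [pullQ, pullQ, Functor.map_comp, Category.assoc]

variable {F : Scheme.{u}} {π : F ⟶ X} {m : ℕ} {n : Fin m → ℕ} {Q : Fin m → F.Modules}
  {q : ∀ i, (Scheme.Modules.pullback π).obj E ⟶ Q i}

/-- Classified points of a flag scheme. -/
def IsClassF (π : F ⟶ X) (q : ∀ i, (Scheme.Modules.pullback π).obj E ⟶ Q i) {T : Scheme.{u}} {g : T ⟶ X}
    {L : Fin m → T.Modules} (s : ∀ i, (Scheme.Modules.pullback g).obj E ⟶ L i) (h : T ⟶ F) : Prop :=
  ∃ hg : h ≫ π = g, ∀ i, SameQ (pullQ h π g hg (q i)) (s i)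

theorem isClassF_iff {T : Scheme.{u}} {g : T ⟶ X} {L : Fin m → T.Modules}
    (s : ∀ i, (Scheme.Modules.pullback g).obj E ⟶ L i) (h : T ⟶ F) :
    IsClassF π q s h ↔ ∃ (hg : h ≫ π = g) (e : ∀ i, (Scheme.Modules.pullback h).obj (Q i) ≅ L i),
      ∀ i, Grass.quotBC hg (q i) ≫ (e i).hom = s i :=
  ⟨fun ⟨hg, hs⟩ => ⟨hg, fun i => (hs i).choose, fun i => by rw [quotBC_eq_pullQ]; exact (hs i).choose_spec⟩,
    fun ⟨hg, e, he⟩ => ⟨hg, fun i => ⟨e i, by rw [← quotBC_eq_pullQ]; exact he i⟩⟩⟩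

theorem existsUnique_classF (hF : Grass.IsFlag π E n Q q) {T : Scheme.{u}} {g : T ⟶ X} {L : Fin m → T.Modules}
    (hL : ∀ i, FlatMod.IsFinLocFreeOfRank (n i) (L i)) (s : ∀ i, (Scheme.Modules.pullback g).obj E ⟶ L i)
    (hs : ∀ i, Epi (s i)) (hn : ∀ i j, i ≤ j → ∃ t : L i ⟶ L j, s i ≫ t = s j) :
    ∃! h : T ⟶ F, IsClassF π q s h :=
  (existsUnique_congr fun h => isClassF_iff s h).2 (hF.univ T g L hL s hs hn)

/-- The flag scheme with one more step is a Grassmannian over the shorter one. -/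
theorem isGrass_step {F' : Scheme.{u}} {π' : F' ⟶ X} {m : ℕ} {n : Fin (m + 2) → ℕ} {Q : Fin (m + 1) → F.Modules}
    {q : ∀ i, (Scheme.Modules.pullback π).obj E ⟶ Q i}
    (hF : Grass.IsFlag π E (fun i => n (Fin.castSucc i)) Q q) {Q' : Fin (m + 2) → F'.Modules}
    {q' : ∀ i, (Scheme.Modules.pullback π').obj E ⟶ Q' i} (hF' : Grass.IsFlag π' E n Q' q') (a : F' ⟶ F)
    (ha : a ≫ π = π') (e : ∀ i, (Scheme.Modules.pullback a).obj (Q i) ≅ Q' (Fin.castSucc i))
    (he : ∀ i, pullQ a π π' ha (q i) ≫ (e i).hom = q' (Fin.castSucc i))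
    (t : Q' (Fin.castSucc (Fin.last m)) ⟶ Q' (Fin.last (m + 1)))
    (ht : q' (Fin.castSucc (Fin.last m)) ≫ t = q' (Fin.last (m + 1))) :
    Grass.IsGrass a (Q (Fin.last m)) (n (Fin.last (m + 1))) (Q' (Fin.last (m + 1))) ((e (Fin.last m)).hom ≫ t) := by
  let qG := (e (Fin.last m)).hom ≫ t
  haveI := hF'.epi (Fin.last (m + 1))
  haveI : ∀ i, Epi (q i) := hF.epi
  have hqG : pullQ a π π' ha (q (Fin.last m)) ≫ qG = q' (Fin.last (m + 1)) := by
    rw [← Category.assoc, he, ht]
  haveI : Epi (pullQ a π π' ha (q (Fin.last m)) ≫ qG) := by rw [hqG]; infer_instance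
  refine isGrass_mk (hF'.rank _) (epi_of_epi (pullQ a π π' ha (q (Fin.last m))) qG) fun T g L hL s hs => ?_
  haveI := hs
  let c := g ≫ π
  let p := fun i => pullQ g π c rfl (q i)
  haveI : ∀ i, Epi (p i) := fun i => epi_pullQ _ _ _ _ _
  let fam : Fin (m + 2) → Σ M : T.Modules, (Scheme.Modules.pullback c).obj E ⟶ M :=
    Fin.snoc (fun i => ⟨_, p i⟩) ⟨L, p (Fin.last m) ≫ s⟩
  have hfc : ∀ i, fam (Fin.castSucc i) = ⟨_, p i⟩ := fun i => Fin.snoc_castSucc _ _ _
  have hfl : fam (Fin.last (m + 1)) = ⟨L, p (Fin.last m) ≫ s⟩ := Fin.snoc_last _ _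
  have congrQ : ∀ {M : T.Modules} (r : (Scheme.Modules.pullback c).obj E ⟶ M)
      {σ τ : Σ M : T.Modules, (Scheme.Modules.pullback c).obj E ⟶ M}, σ = τ → SameQ r τ.2 → SameQ r σ.2 := by
    intro M r σ τ h h'; subst h; exact h'
  obtain ⟨h, ⟨hh, hhs⟩, huniq⟩ := existsUnique_classF hF' (L := fun i => (fam i).1)
    (fun i => by
      induction i using Fin.lastCases with
      | last => rw [hfl]; exact hL
      | cast i => rw [hfc]; exact KRRReg.isFinLocFreeOfRank_pullback g (hF.rank i))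
    (fun i => (fam i).2)
    (fun i => by
      induction i using Fin.lastCases with
      | last => rw [hfl]; exact epi_comp _ _
      | cast i => rw [hfc]; exact inferInstanceAs (Epi (p i)))
    (fun i j hij => by
      induction j using Fin.lastCases with
      | last =>
        rw [hfl]
        induction i using Fin.lastCases with
        | last => rw [hfl]; exact ⟨𝟙 _, Category.comp_id _⟩
        | cast i =>
          rw [hfc]
          obtain ⟨w, hw⟩ := hF.nested i (Fin.last m) (Fin.le_last i)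
          exact ⟨(Scheme.Modules.pullback g).map w ≫ s, by
            rw [← Category.assoc, ← pullQ_comp_map, hw]⟩
      | cast j =>
        rw [hfc]
        induction i using Fin.lastCases with
        | last => exact absurd hij (not_le.2 (Fin.castSucc_lt_last j))
        | cast i =>
          rw [hfc]
          obtain ⟨w, hw⟩ := hF.nested i j (Fin.castSucc_le_castSucc_iff.1 hij)
          exact ⟨(Scheme.Modules.pullback g).map w, by rw [← pullQ_comp_map, hw]⟩)
  have castQ : ∀ (y : T ⟶ F') (hy : y ≫ π' = c) i, SameQ (pullQ y π' c hy (q' (Fin.castSucc i)))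
      (pullQ (y ≫ a) π c (by rw [Category.assoc, ha, hy]) (q i)) := fun y hy i =>
    (SameQ.pullQ y c hy (SameQ.symm ⟨e i, he i⟩)).trans (sameQ_pullQ_pullQ y a π π' ha c hy (y ≫ a) rfl (q i))
  have hga : h ≫ a = g := by
    refine (existsUnique_classF hF (fun i => KRRReg.isFinLocFreeOfRank_pullback g (hF.rank i)) p
      (fun i => inferInstance) (fun i j hij => ?_)).unique
      ⟨by rw [Category.assoc, ha, hh], fun i => (castQ h hh i).symm.trans ((hhs (Fin.castSucc i)).trans
        (congrQ _ (hfc i) (SameQ.refl _)).symm)⟩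
      ⟨rfl, fun i => SameQ.refl _⟩
    obtain ⟨w, hw⟩ := hF.nested i j hij
    exact ⟨(Scheme.Modules.pullback g).map w, by rw [← pullQ_comp_map, hw]⟩
  have tower : ∀ (y : T ⟶ F') (hy : y ≫ a = g) (hy' : y ≫ π' = c),
      p (Fin.last m) ≫ pullQ y a g hy qG = pullQ y π' c hy' (q' (Fin.last (m + 1))) := fun y hy hy' => by
    rw [← hqG]
    exact pullQ_tower y a g hy π π' ha c rfl hy' _ _
  refine ⟨h, ⟨hga, sameQ_of_comp (p (Fin.last m)) ?_⟩, ?_⟩
  · rw [tower h hga hh]
    exact (hhs (Fin.last (m + 1))).trans (congrQ _ hfl (SameQ.refl _)).symm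
  · rintro y ⟨hy, hys⟩
    have hy' : y ≫ π' = c := by rw [← ha, ← Category.assoc, hy]
    refine huniq y ⟨hy', fun i => ?_⟩
    induction i using Fin.lastCases with
    | last =>
      refine congrQ _ hfl ?_
      rw [← tower y hy hy']
      exact SameQ.comp _ hys
    | cast i =>
      refine congrQ _ (hfc i) ((castQ y hy' i).trans ?_)
      exact sameQ_pullQ_congr hy π c (by rw [hy]) rfl (q i)

end Groth.Agent.GrassSch

end
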