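import Groth.Agent.GrassSch.Exists
import Groth.Agent.GrPlucker.Smooth
import Groth.Agent.TwistFlat.Base
import Mathlib.Algebra.MvPolynomial.Nilpotent

/-!
# Geometry of the Grassmannian of a free module over an affine base
-/

set_option autoImplicit false
set_option linter.style.haveILetI false
set_option linter.unusedSectionVars false
set_option backward.isDefEq.respectTransparency false
set_option backward.isDefEq.respectTransparency.types false
set_option maxHeartbeats 1000000
set_option synthInstance.maxHeartbeats 400000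

universe u

open CategoryTheory CategoryTheory.Limits AlgebraicGeometry TopologicalSpace Opposite

attribute [-instance] CategoryTheory.catToReflQuiver

noncomputable section

namespace Groth.Agent.GrassSch

open Groth.Agent Groth.Agent.QuotRep Groth.Agent.QuotRep.Gr

/-- A polynomial ring over a ring with irreducible spectrum has irreducible spectrum. -/
theorem irreducibleSpace_mvPolynomial {σ : Type u} (B : Type u) [CommRing B]
    [IrreducibleSpace (PrimeSpectrum B)] : IrreducibleSpace (PrimeSpectrum (MvPolynomial σ B)) := by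
  haveI : (nilradical B).IsPrime := (PrimeSpectrum.irreducibleSpace_iff_isPrime_nilradical (R := B)).1 inferInstance
  haveI : IsDomain (B ⧸ nilradical B) := Ideal.Quotient.isDomain _
  let φ : MvPolynomial σ B →+* MvPolynomial σ (B ⧸ nilradical B) := MvPolynomial.map (Ideal.Quotient.mk _)
  have hφ : Function.Surjective φ := MvPolynomial.map_surjective _ Ideal.Quotient.mk_surjective
  have hker : RingHom.ker φ ≤ nilradical (MvPolynomial σ B) := by
    intro x hx
    refine mem_nilradical.2 (MvPolynomial.isNilpotent_iff.2 fun m => mem_nilradical.1 ?_)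
    have := congrArg (MvPolynomial.coeff m) (RingHom.mem_ker.1 hx)
    rw [MvPolynomial.coeff_map, MvPolynomial.coeff_zero] at this
    exact Ideal.Quotient.eq_zero_iff_mem.1 this
  have hs : Function.Surjective (PrimeSpectrum.comap φ) := fun p => by
    have hp : p ∈ PrimeSpectrum.zeroLocus (RingHom.ker φ : Set (MvPolynomial σ B)) :=
      (PrimeSpectrum.mem_zeroLocus _ _).2 (hker.trans (nilradical_le_prime p.asIdeal))
    rwa [← range_comap_of_surjective _ φ hφ] at hp
  haveI : IrreducibleSpace (PrimeSpectrum (MvPolynomial σ (B ⧸ nilradical B))) := PrimeSpectrum.irreducibleSpace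
  exact Function.Surjective.irreducibleSpace (PrimeSpectrum.continuous_comap φ) hs

theorem Normed.injective {A : Type u} [CommRing A] [Nontrivial A] {N n : ℕ} {I : Fin n → Fin N}
    {P : Matrix (Fin n) (Fin N) A} (h : GrPlucker.Normed I P) : Function.Injective I := fun a b e => by
  have h1 := congrFun (congrFun h a) a
  have h2 := congrFun (congrFun h a) b
  rw [Matrix.submatrix_apply, ← e] at h2
  rw [Matrix.submatrix_apply] at h1
  by_contra hne
  rw [Matrix.one_apply_eq] at h1
  rw [Matrix.one_apply_ne hne] at h2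
  exact one_ne_zero (h1.symm.trans h2)

/-- Two sets of `n` columns are simultaneously frames of some matrix. -/
theorem exists_colour {N n : ℕ} (I J : Fin n → Fin N) (hI : Function.Injective I) (hJ : Function.Injective J)
    (hn : 0 < n) : ∃ c : Fin N → Fin n, (∀ r, c (I r) = r) ∧ Function.Bijective (c ∘ J) := by
  classical
  let A : Finset (Fin n) := Finset.univ.filter fun r => J r ∈ Set.range I
  let A' : Finset (Fin n) := Finset.univ.filter fun r => I r ∈ Set.range J
  have hA : A.card = A'.card := by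
    have h1 : A.image J = A'.image I := by
      ext l
      simp only [A, A', Finset.mem_image, Finset.mem_filter, Finset.mem_univ, true_and, Set.mem_range]
      constructor
      · rintro ⟨r, ⟨s, hs⟩, rfl⟩; exact ⟨s, ⟨r, hs.symm⟩, hs⟩
      · rintro ⟨r, ⟨s, hs⟩, rfl⟩; exact ⟨s, ⟨r, hs.symm⟩, hs⟩
    rw [← Finset.card_image_of_injective A hJ, h1, Finset.card_image_of_injective A' hI]
  obtain ⟨e⟩ : Nonempty ((Aᶜ : Finset (Fin n)) ≃ (A'ᶜ : Finset (Fin n))) := ⟨Finset.equivOfCardEq (by
    rw [Finset.card_compl, Finset.card_compl, hA])⟩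
  let c : Fin N → Fin n := fun l =>
    if h : l ∈ Set.range I then h.choose
    else if h' : ∃ r : (Aᶜ : Finset (Fin n)), J r = l then e h'.choose else ⟨0, hn⟩
  have hcI : ∀ r, c (I r) = r := fun r => by
    have h : I r ∈ Set.range I := ⟨r, rfl⟩
    simp only [c, dif_pos h]
    exact hI h.choose_spec
  have hcA : ∀ r ∈ A, ∃ s ∈ A', c (J r) = s ∧ I s = J r := fun r hr => by
    obtain ⟨s, hs⟩ := (Finset.mem_filter.1 hr).2
    exact ⟨s, Finset.mem_filter.2 ⟨Finset.mem_univ _, r, hs.symm⟩, by rw [← hs, hcI], hs⟩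
  have hcB : ∀ r : (Aᶜ : Finset (Fin n)), c (J r) = e r := fun r => by
    have h : J r ∉ Set.range I := fun h => Finset.mem_compl.1 r.2 (Finset.mem_filter.2 ⟨Finset.mem_univ _, h⟩)
    have h' : ∃ r' : (Aᶜ : Finset (Fin n)), J r' = J r := ⟨r, rfl⟩
    simp only [c, dif_neg h, dif_pos h']
    rw [Subtype.ext (hJ h'.choose_spec)]
  refine ⟨c, hcI, Finite.injective_iff_bijective.1 fun r r' h => ?_⟩
  simp only [Function.comp_apply] at h
  by_cases hr : r ∈ A <;> by_cases hr' : r' ∈ A
  · obtain ⟨s, -, hs, hs'⟩ := hcA r hr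
    obtain ⟨t, -, ht, ht'⟩ := hcA r' hr'
    rw [hs, ht] at h
    exact hJ (hs'.symm.trans (h ▸ ht'))
  · obtain ⟨s, hsA, hs, -⟩ := hcA r hr
    have hB : c (J r') = (e ⟨r', Finset.mem_compl.2 hr'⟩ : Fin n) := hcB ⟨r', Finset.mem_compl.2 hr'⟩
    rw [hs, hB] at h
    exact absurd (h ▸ hsA) (Finset.mem_compl.1 (e ⟨r', _⟩).2)
  · obtain ⟨s, hsA, hs, -⟩ := hcA r' hr'
    have hB : c (J r) = (e ⟨r, Finset.mem_compl.2 hr⟩ : Fin n) := hcB ⟨r, Finset.mem_compl.2 hr⟩
    rw [hs, hB] at h
    exact absurd (h.symm ▸ hsA) (Finset.mem_compl.1 (e ⟨r, _⟩).2)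
  · have h1 : c (J r) = (e ⟨r, Finset.mem_compl.2 hr⟩ : Fin n) := hcB ⟨r, Finset.mem_compl.2 hr⟩
    have h2 : c (J r') = (e ⟨r', Finset.mem_compl.2 hr'⟩ : Fin n) := hcB ⟨r', Finset.mem_compl.2 hr'⟩
    rw [h1, h2] at h
    exact congrArg Subtype.val (e.injective (Subtype.ext h))

/-- Two charts of the Grassmannian meet over every point of the base. -/
theorem exists_common_pt {N n : ℕ} (k : CommRingCat.{u}) [Nontrivial k] (b : Module.Basis (Fin N) k (Fin N → k))
    (D : GrPlucker.Rep (k : Type u) (Fin N → k) n) (I J : Fin n → Fin N) (hI : Function.Injective I)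
    (hJ : Function.Injective J) :
    ¬ Disjoint (Set.range (GrPlucker.σ D I b)) (Set.range (GrPlucker.σ D J b)) := by
  obtain ⟨m, hm⟩ := Ideal.exists_maximal (k : Type u)
  obtain ⟨c, hcI, hcJ⟩ : ∃ c : Fin N → Fin n → Prop, (∀ r s, c (I r) s ↔ r = s) ∧
      ∃ τ : Fin n ≃ Fin n, ∀ r s, c (J r) s ↔ τ r = s := by
    rcases Nat.eq_zero_or_pos n with rfl | hn
    · exact ⟨fun _ _ => False, fun r => r.elim0, Equiv.refl _, fun r => r.elim0⟩
    · obtain ⟨c, h1, h2⟩ := exists_colour I J hI hJ hn
      exact ⟨fun l s => c l = s, fun r s => by simp only [h1], Equiv.ofBijective _ h2, fun r s => Iff.rfl⟩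
  obtain ⟨τ, hτ⟩ := hcJ
  classical
  let T : Scheme.{u} := Spec (CommRingCat.of ((k : Type u) ⧸ m))
  let s : T ⟶ Spec k := Spec.map (CommRingCat.ofHom (Ideal.Quotient.mk m))
  let P : Matrix (Fin n) (Fin N) Γ(T, ⊤) := fun r l => if c l r then 1 else 0
  have hPI : P.submatrix id I = 1 := Matrix.ext fun r t => by
    simp only [Matrix.submatrix_apply, P, id_eq, hcI, Matrix.one_apply]
    exact if_congr eq_comm rfl rfl
  let G : Matrix (Fin n) (Fin n) Γ(T, ⊤) := fun r t => if τ t = r then 1 else 0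
  let G' : Matrix (Fin n) (Fin n) Γ(T, ⊤) := fun r t => if τ r = t then 1 else 0
  have hGG : G' * G = 1 := Matrix.ext fun r t => by
    simp only [Matrix.mul_apply, G, G', Matrix.one_apply]
    simp [Finset.sum_ite_eq, eq_comm]
  have hPJ : (G' * P).submatrix id J = 1 := by
    rw [← hGG]
    refine Matrix.ext fun r t => ?_
    simp only [Matrix.submatrix_apply, Matrix.mul_apply, P, G, id_eq, hτ]
  obtain ⟨a, ha, haP⟩ := exists_map s P hPI
  obtain ⟨a', ha', haP'⟩ := exists_map s (G' * P) hPJ
  have he : a ≫ GrPlucker.σ D I b = a' ≫ GrPlucker.σ D J b := comp_σ_eq (b := b) (D := D) a a' (ha.trans ha'.symm) G G' (by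
    rw [haP, haP', ← Matrix.mul_assoc, mul_eq_one_comm.1 hGG, Matrix.one_mul]) (by rw [haP, haP'])
  obtain ⟨o⟩ : Nonempty T := inferInstanceAs (Nonempty (PrimeSpectrum ((k : Type u) ⧸ m)))
  rw [Set.not_disjoint_iff]
  exact ⟨(a ≫ GrPlucker.σ D I b) o, ⟨a o, rfl⟩, by rw [he]; exact ⟨a' o, rfl⟩⟩

/-- The Grassmannian of a free module over an affine base, with its geometry. -/
theorem exists_model (k : CommRingCat.{u}) (N n : ℕ) (hn : n ≤ N) :
    ∃ (G : Scheme.{u}) (p : G ⟶ Spec k) (Q : G.Modules)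
      (q : (Scheme.Modules.pullback p).obj (FlatMod.freeMod (Spec k) N) ⟶ Q),
      Grass.IsGrass p (FlatMod.freeMod (Spec k) N) n Q q ∧ SmoothOfRelativeDimension (n * (N - n)) p ∧
        IsProper p ∧ Surjective p ∧ (IrreducibleSpace (Spec k) → IrreducibleSpace G) := by
  obtain ⟨X, e, he⟩ := GrassRep.exists_grass (R := k) (M := Fin N → k) n
  let D : GrPlucker.Rep (k : Type u) (Fin N → k) n := ⟨X, e, he⟩
  let b := Pi.basisFun k (Fin N)
  obtain ⟨q, hq⟩ := exists_q_isGrass (S := Spec k) D.X.hom (Gr.sig b D) Gr.isFinLocFreeOfRank_Q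
    (Gr.epi_secHom_sig b D) fun T s L hL v hv => by haveI := hv; exact Gr.existsUnique_cls (b := b) (D := D) hL v s
  obtain ⟨cl, hcl, hcl'⟩ := GrPlucker.exists_closedImmersion b D hn
  have hcard : Fintype.card {s : Finset (Fin N) // s.card = n} = N.choose n - 1 + 1 := by
    rw [Fintype.card_finset_len, Fintype.card_fin]
    have := Nat.choose_pos hn
    omega
  let ι : Fin (N.choose n - 1 + 1) ≃ {s : Finset (Fin N) // s.card = n} :=
    (Fintype.equivFinOfCardEq hcard).symm
  haveI : ∀ t, IsOpenImmersion (GrPlucker.σ D (GrPlucker.cols ι t) b) := fun t =>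
    GrPlucker.isOpenImmersion_σ D _ b
  refine ⟨_, _, _, q, hq, GrPlucker.smoothOfRelativeDimension_hom b D hn, ?_, ⟨fun y => ?_⟩, fun hk => ?_⟩
  · rw [← hcl']
    haveI := TwistFlat.isProper_toBase (N.choose n - 1) (Y := Spec k)
    haveI := hcl
    infer_instance
  · obtain ⟨f⟩ := GrPlucker.exists_chartEquiv (k := (k : Type u)) (GrPlucker.cols ι 0) (GrPlucker.cols_injective ι 0)
    let ev := (MvPolynomial.aeval (fun _ => (0 : k))).comp f.toAlgHom
    let z : Spec k ⟶ Y (k : Type u) (GrPlucker.cols ι 0) := Spec.map (CommRingCat.ofHom ev.toRingHom)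
    have hz : (z ≫ GrPlucker.σ D (GrPlucker.cols ι 0) b) ≫ D.X.hom = 𝟙 _ := by
      rw [Category.assoc, GrPlucker.σ_hom, ← Spec.map_comp, ← Spec.map_id]
      exact congrArg Spec.map (CommRingCat.hom_ext (RingHom.ext fun x => ev.commutes x))
    exact ⟨(z ≫ GrPlucker.σ D (GrPlucker.cols ι 0) b) y, by rw [← Scheme.Hom.comp_apply, hz]; rfl⟩
  · haveI := hk
    haveI : Nontrivial k := PrimeSpectrum.nonempty_iff_nontrivial.1 hk.toNonempty
    haveI : IrreducibleSpace (PrimeSpectrum (k : Type u)) := hk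
    let U := fun t => (GrPlucker.σ D (GrPlucker.cols ι t) b).opensRange
    have hirr : ∀ t, IrreducibleSpace (U t) := fun t => by
      obtain ⟨f⟩ := GrPlucker.exists_chartEquiv (k := (k : Type u)) (GrPlucker.cols ι t) (GrPlucker.cols_injective ι t)
      haveI := irreducibleSpace_mvPolynomial (σ := ULift.{u} (Fin (n * (N - n)))) (k : Type u)
      haveI : IrreducibleSpace (Y (k : Type u) (GrPlucker.cols ι t)) :=
        (PrimeSpectrum.homeomorphOfRingEquiv f.toRingEquiv).irreducibleSpace_iff.2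
          (inferInstanceAs (IrreducibleSpace (PrimeSpectrum (MvPolynomial (ULift.{u} (Fin (n * (N - n)))) (k : Type u)))))
      exact (GrPlucker.σ D (GrPlucker.cols ι t) b).isoOpensRange.hom.homeomorph.irreducibleSpace_iff.1 inferInstance
    have hcov : IsOpenCover U := top_le_iff.1 fun x _ =>
      let ⟨t, ht⟩ := GrPlucker.exists_chart_mem ι b D x
      Opens.mem_iSup.2 ⟨t, ht⟩
    haveI := PreirreducibleSpace.of_isOpenCover (U := U) (fun t t' _ => by
      intro h
      exact exists_common_pt k b D _ _ (GrPlucker.cols_injective ι t) (GrPlucker.cols_injective ι t')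
        (Set.disjoint_iff_inter_eq_empty.2 (Set.eq_empty_of_forall_notMem fun x hx =>
          (disjoint_iff.1 h).le (show x ∈ U t ⊓ U t' from ⟨hx.1, hx.2⟩))))
      hcov fun t => (hirr t).toPreirreducibleSpace
    exact ⟨(hirr 0).toNonempty.map Subtype.val⟩

end Groth.Agent.GrassSch

end
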