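import Groth.Agent.GrassSch.Bundle
import Groth.Agent.ExtPowSh.Loc
import Groth.Agent.ExtPowSh.Functor
import Groth.Agent.QCoh.Support
import Groth.Agent.ExistEasy.PP.PullSec
import Mathlib.LinearAlgebra.Determinant

/-!
# Top exterior powers of quotients determine them
-/

set_option autoImplicit false
set_option linter.style.haveILetI false
set_option linter.unusedSectionVars false
set_option backward.isDefEq.respectTransparency false
set_option backward.isDefEq.respectTransparency.types false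
set_option maxHeartbeats 1000000
set_option synthInstance.maxHeartbeats 400000

universe u

open CategoryTheory CategoryTheory.Limits AlgebraicGeometry TopologicalSpace Opposite

attribute [-instance] CategoryTheory.catToReflQuiver

noncomputable section

namespace Groth.Agent.GrassSch

open Groth.Agent Groth.Agent.QuotRep Groth.Agent.ExtPowSh

variable {X : Scheme.{u}} {A B : X.Modules} (i : ℕ)

/-- The sectionwise exterior power of a morphism. -/
def mapPre (f : A ⟶ B) : pre A i ⟶ pre B i where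
  app U := ModuleCat.ofHom (X := ↥(⋀[Γ(X, U.unop)]^i (A.val.obj (op U.unop))))
    (Y := ↥(⋀[Γ(X, U.unop)]^i (B.val.obj (op U.unop)))) (exteriorPower.map i (appL f U.unop))
  naturality {U V} g := by
    refine ModuleCat.hom_ext (LinearMap.ext fun z => ?_)
    show exteriorPower.map i (appL f V.unop) (ExtPowSh.map i (resL A g.unop.le) z) =
      ExtPowSh.map i (resL B g.unop.le) (exteriorPower.map i (appL f U.unop) z)
    refine LinearMap.congr_fun (ExtPowSh.hom_ext (φ := (exteriorPower.map i (appL f V.unop)).comp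
      (ExtPowSh.map i (resL A g.unop.le))) (ψ := (ExtPowSh.map i (resL B g.unop.le)).comp
        (exteriorPower.map i (appL f U.unop))) fun v => ?_) z
    simp only [LinearMap.coe_comp, Function.comp_apply, map_ιMulti, exteriorPower.map_apply_ιMulti]
    refine congrArg _ (funext fun j => ?_)
    exact (map_appL f g.unop.le (v j)).symm

/-- The exterior power of a morphism. -/
def mapL (f : A ⟶ B) : L A i ⟶ L B i := DCoh.shP.map (mapPre i f)

theorem mapL_toL (f : A ⟶ B) (U : X.Opens) (z : ↥(⋀[Γ(X, U)]^i (A.val.obj (op U)))) :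
    (mapL i f).app U (toL A i U z) = toL B i U (exteriorPower.map i (appL f U) z) :=
  congr(($(KFlatLib.unitShP_naturality (mapPre i f))).app (op U) z).symm

theorem mapL_wedge (f : A ⟶ B) (U : X.Opens) (v : Fin i → A.val.obj (op U)) :
    (mapL i f).app U (toL A i U (exteriorPower.ιMulti _ i v)) =
      toL B i U (exteriorPower.ιMulti _ i fun j => (f.app U (v j) : B.val.obj (op U))) := by
  rw [mapL_toL, exteriorPower.map_apply_ιMulti]
  rfl

/-- Exterior powers of epimorphisms of quasi-coherent modules are epimorphisms. -/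
theorem epi_mapL (f : A ⟶ B) [Epi f] (hA : Coh.IsQCoh A) (hB : Coh.IsQCoh B) : Epi (mapL i f) where
  left_cancellation {M} a b h := by
    rw [← sub_eq_zero]
    refine hom_eq_zero_of_isBasis _ X.isBasis_affineOpens fun U hU s => ?_
    obtain ⟨w, rfl⟩ := toL_surjective B i hB hU s
    obtain ⟨z, rfl⟩ := exteriorPower.map_surjective (n := i) (f := appL f U)
      (QCoh.app_surjective_of_epi hA hB f hU) w
    show (a - b).app U _ = 0
    rw [← mapL_toL]
    have : (mapL i f ≫ (a - b)) = 0 := by rw [Preadditive.comp_sub, h, sub_self]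
    exact congr(($this).app U (toL A i U z))

/-- Morphisms out of an inverse image agree once they agree on pulled back sections. -/
theorem hom_ext_pull {T : Scheme.{u}} (g : T ⟶ X) {M : X.Modules} {N : T.Modules}
    (a b : (Scheme.Modules.pullback g).obj M ⟶ N)
    (h : ∀ U : X.Opens, IsAffineOpen U → ∀ s : Γ(M, U),
      a.app (g ⁻¹ᵁ U) (QCoh.pullSec g M le_rfl s) = b.app (g ⁻¹ᵁ U) (QCoh.pullSec g M le_rfl s)) : a = b := by
  refine ((Scheme.Modules.pullbackPushforwardAdjunction g).homEquiv _ _).injective ?_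
  rw [← sub_eq_zero]
  refine hom_eq_zero_of_isBasis _ X.isBasis_affineOpens fun U hU s => ?_
  have h' := h U hU s
  have e : QCoh.pullSec g M le_rfl s = ((Scheme.Modules.pullbackPushforwardAdjunction g).unit.app M).app U s :=
    QCoh.map_id' (M := (Scheme.Modules.pullback g).obj M) (U := g ⁻¹ᵁ U) (homOfLE le_rfl) _
  rw [e] at h'
  show ((Scheme.Modules.pullbackPushforwardAdjunction g).homEquiv _ _ a -
    (Scheme.Modules.pullbackPushforwardAdjunction g).homEquiv _ _ b).app U s = 0
  rw [Adjunction.homEquiv_unit, Adjunction.homEquiv_unit]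
  show a.app (g ⁻¹ᵁ U) _ - b.app (g ⁻¹ᵁ U) _ = 0
  rw [sub_eq_zero]
  exact h'

theorem pullQ_pullSec {G T : Scheme.{u}} {E : X.Modules} (h : T ⟶ G) (π : G ⟶ X) {Q : G.Modules}
    (q : (Scheme.Modules.pullback π).obj E ⟶ Q) (U : X.Opens) (s : Γ(E, U)) :
    (pullQ h π (h ≫ π) rfl q).app (h ⁻¹ᵁ (π ⁻¹ᵁ U))
        (QCoh.pullSec (h ≫ π) E (show h ⁻¹ᵁ (π ⁻¹ᵁ U) ≤ (h ≫ π) ⁻¹ᵁ U from le_rfl) s) =
      QCoh.pullSec h Q le_rfl (q.app (π ⁻¹ᵁ U) (QCoh.pullSec π E le_rfl s)) := by
  let W := h ⁻¹ᵁ (π ⁻¹ᵁ U)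
  let y := QCoh.pullSec h _ (le_refl W) (QCoh.pullSec π E le_rfl s)
  have hτ : ((LimMod.trIso h π (h ≫ π) rfl).hom.app E).app W y =
      QCoh.pullSec (h ≫ π) E (show W ≤ (h ≫ π) ⁻¹ᵁ U from le_rfl) s := by
    refine Eq.trans ?_ (ExistEasy.pullSec_comp h π E le_rfl le_rfl s)
    simp [LimMod.trIso, Scheme.Modules.pullbackCongr, y]
    rfl
  show ((Scheme.Modules.pullback h).map q).app W (((LimMod.trIso h π (h ≫ π) rfl).inv.app E).app W _) = _
  rw [← hτ]
  exact (congrArg (((Scheme.Modules.pullback h).map q).app W)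
    congr(($((LimMod.trIso h π (h ≫ π) rfl).hom_inv_id_app E)).app W y)).trans
      (ExistEasy.pullSec_natural h q le_rfl _)

/-- The map on top exterior powers induced by a quotient. -/
def pl {G : Scheme.{u}} {E : X.Modules} (π : G ⟶ X) {Q : G.Modules} (q : (Scheme.Modules.pullback π).obj E ⟶ Q) :
    (Scheme.Modules.pullback π).obj (L E i) ⟶ L Q i :=
  compHom π E i ≫ mapL i q

theorem pl_wedge {G : Scheme.{u}} {E : X.Modules} (π : G ⟶ X) {Q : G.Modules}
    (q : (Scheme.Modules.pullback π).obj E ⟶ Q) (U : X.Opens) (v : Fin i → E.val.obj (op U)) :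
    (pl i π q).app (π ⁻¹ᵁ U) (QCoh.pullSec π (L E i) le_rfl (toL E i U (exteriorPower.ιMulti _ i v))) =
      toL Q i (π ⁻¹ᵁ U) (exteriorPower.ιMulti _ i fun j =>
        (q.app (π ⁻¹ᵁ U) (QCoh.pullSec π E le_rfl (v j : Γ(E, U))) : Q.val.obj (op (π ⁻¹ᵁ U)))) := by
  show (mapL i q).app _ ((compHom π E i).app _ _) = _
  rw [compHom_pullSec, map_ιMulti, map_ιMulti, mapL_wedge]
  rfl

theorem hom_ext_wedge {T : Scheme.{u}} (g : T ⟶ X) {E : X.Modules} (hE : Coh.IsQCoh E) {N : T.Modules}
    (a b : (Scheme.Modules.pullback g).obj (L E i) ⟶ N)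
    (h : ∀ U : X.Opens, IsAffineOpen U → ∀ v : Fin i → E.val.obj (op U),
      a.app (g ⁻¹ᵁ U) (QCoh.pullSec g (L E i) le_rfl (toL E i U (exteriorPower.ιMulti _ i v))) =
        b.app (g ⁻¹ᵁ U) (QCoh.pullSec g (L E i) le_rfl (toL E i U (exteriorPower.ιMulti _ i v)))) : a = b := by
  refine hom_ext_pull g a b fun U hU s => ?_
  obtain ⟨z, rfl⟩ := toL_surjective E i hE hU s
  have hz : z ∈ Submodule.span Γ(X, U) (Set.range (exteriorPower.ιMulti Γ(X, U) i (M := E.val.obj (op U)))) := by
    rw [exteriorPower.ιMulti_span]; trivial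
  induction hz using Submodule.span_induction with
  | mem _ hx => obtain ⟨v, rfl⟩ := hx; exact h U hU v
  | zero =>
    rw [map_zero]
    erw [show QCoh.pullSec g (L E i) (le_refl (g ⁻¹ᵁ U)) (0 : Γ(L E i, U)) = 0 from by
      unfold QCoh.pullSec
      exact (congrArg _ (map_zero _)).trans (map_zero _)]
    rw [map_zero, map_zero]
  | add x y _ _ hx hy =>
    rw [map_add]
    erw [QCoh.pullSec_add]
    rw [map_add, map_add, hx, hy]
  | smul r x _ hx =>
    rw [map_smul]
    erw [QCoh.pullSec_smul]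
    rw [Scheme.Modules.Hom.app_smul, Scheme.Modules.Hom.app_smul, hx]

/-- The induced map on exterior powers commutes with base change. -/
theorem pl_natural {G T : Scheme.{u}} {E : X.Modules} (hE : Coh.IsQCoh E) (h : T ⟶ G) (π : G ⟶ X) (g : T ⟶ X)
    (hg : h ≫ π = g) {Q : G.Modules} (q : (Scheme.Modules.pullback π).obj E ⟶ Q) :
    pullQ h π g hg (pl i π q) ≫ compHom h Q i = pl i g (pullQ h π g hg q) := by
  subst hg
  refine hom_ext_wedge i (h ≫ π) hE _ _ fun U hU v => ?_
  refine Eq.trans ?_ (pl_wedge i (h ≫ π) (pullQ h π (h ≫ π) rfl q) U v).symm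
  show (compHom h Q i).app _ ((pullQ h π (h ≫ π) rfl (pl i π q)).app _ _) = _
  erw [pullQ_pullSec h π (pl i π q) U (toL E i U (exteriorPower.ιMulti _ i v))]
  rw [pl_wedge]
  erw [compHom_pullSec]
  rw [map_ιMulti, map_ιMulti]
  refine congrArg _ (congrArg _ (funext fun j => ?_))
  exact (pullQ_pullSec h π q U (v j)).symm

/-- A quotient of rank equal to the degree is determined by its exterior power. -/
theorem ker_comp_eq_zero {E : X.Modules} {Q₁ Q₂ : X.Modules} (hE : Coh.IsQCoh E) {q : ℕ}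
    (h₁ : FlatMod.IsFinLocFreeOfRank q Q₁) (h₂ : Coh.IsQCoh Q₂) (s₁ : E ⟶ Q₁) [Epi s₁] (s₂ : E ⟶ Q₂)
    (e : L Q₁ q ≅ L Q₂ q) (he : mapL q s₁ ≫ e.hom = mapL q s₂) : kernel.ι s₂ ≫ s₁ = 0 := by
  have h₁' : Coh.IsQCoh Q₁ := QCoh.isQCoh_of_isFinLocFree fun x => let ⟨U, hx, e⟩ := h₁ x; ⟨U, q, hx, e⟩
  have hB : Opens.IsBasis {W : X.Opens | IsAffineOpen W ∧
      Nonempty (Γ(Q₁, W) ≃ₗ[Γ(X, W)] (ULift.{u} (Fin q) →₀ Γ(X, W)))} := by
    refine Opens.isBasis_iff_nbhd.2 fun {V y} hy => ?_
    obtain ⟨U, hyU, ⟨ε⟩⟩ := h₁ y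
    obtain ⟨W, hW, hyW, hle⟩ := exists_isAffineOpen_mem_and_subset (U := V ⊓ U) (x := y) ⟨hy, hyU⟩
    exact ⟨W, ⟨hW, QCoh.free_sections hW (fun a ha => (hle ha).2) ε⟩, hyW, fun a ha => (hle ha).1⟩
  refine hom_eq_zero_of_isBasis _ hB ?_
  rintro W ⟨hW, ⟨l⟩⟩ k
  classical
  let b : Module.Basis (Fin q) Γ(X, W) (Q₁.val.obj (op W)) := (Module.Basis.ofRepr l).reindex Equiv.ulift
  let x : E.val.obj (op W) := (kernel.ι s₂).app W k
  have hx : (s₂.app W x : Q₂.val.obj (op W)) = 0 :=
    congr(($(kernel.condition s₂)).app W k)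
  choose y hy using fun j => QCoh.app_surjective_of_epi hE h₁' s₁ hW (b j)
  show (s₁.app W x : Q₁.val.obj (op W)) = 0
  refine b.repr.injective (Finsupp.ext fun j => ?_)
  rw [map_zero, Finsupp.zero_apply]
  let v : Fin q → E.val.obj (op W) := Function.update y j x
  have hv₂ : exteriorPower.ιMulti Γ(X, W) q (fun t => (s₂.app W (v t) : Q₂.val.obj (op W))) = 0 :=
    AlternatingMap.map_coord_zero _ j (by simp [v, hx])
  have h0 : toL Q₁ q W (exteriorPower.ιMulti Γ(X, W) q fun t => (s₁.app W (v t) : Q₁.val.obj (op W))) = 0 := by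
    refine (ConcreteCategory.bijective_of_isIso (e.hom.app W)).1 ?_
    rw [← mapL_wedge]
    refine (congr(($he).app W (toL E q W (exteriorPower.ιMulti Γ(X, W) q v)))).trans ?_
    refine (mapL_wedge q s₂ W v).trans ?_
    exact ((congrArg (toL Q₂ q W) hv₂).trans (map_zero _)).trans (map_zero _).symm
  have h1 := congrArg (exteriorPower.alternatingMapLinearEquiv b.det)
    (toL_injective Q₁ q h₁' hW (h0.trans (map_zero _).symm))
  rw [exteriorPower.alternatingMapLinearEquiv_apply_ιMulti, map_zero] at h1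
  let c := b.repr (s₁.app W x : Q₁.val.obj (op W))
  have hv₁ : (fun t => (s₁.app W (v t) : Q₁.val.obj (op W))) = Function.update (⇑b) j (∑ t, c t • b t) := by
    rw [b.sum_repr]
    funext t
    by_cases ht : t = j
    · subst ht; simp [v]
    · simp [v, ht, hy]
  rw [hv₁, AlternatingMap.map_update_sum, Finset.sum_eq_single j] at h1
  · rw [AlternatingMap.map_update_smul, Function.update_eq_self, Module.Basis.det_self, smul_eq_mul, mul_one] at h1
    exact h1
  · intro t _ ht
    rw [AlternatingMap.map_update_smul, AlternatingMap.map_update_self _ _ (Ne.symm ht), smul_zero]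
  · exact fun h => absurd (Finset.mem_univ j) h

end Groth.Agent.GrassSch

end
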