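import Groth.Agent.GrassSch.Flag
import Groth.Agent.GrassSch.Bundle

/-!
# Flag schemes as towers of Grassmannian bundles
-/

set_option autoImplicit false
set_option linter.style.haveILetI false
set_option linter.unusedSectionVars false
set_option backward.isDefEq.respectTransparency false
set_option backward.isDefEq.respectTransparency.types false
set_option maxHeartbeats 1000000
set_option synthInstance.maxHeartbeats 400000

universe u

open CategoryTheory CategoryTheory.Limits AlgebraicGeometry TopologicalSpace Opposite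

attribute [-instance] CategoryTheory.catToReflQuiver

noncomputable section

namespace Groth.Agent.GrassSch

open Groth.Agent Groth.Agent.QuotRep

variable {X : Scheme.{u}} {E : X.Modules}

theorem qcoh_ft {Y : Scheme.{u}} {r : ℕ} {M : Y.Modules} (h : FlatMod.IsFinLocFreeOfRank r M) :
    Coh.IsQCoh M ∧ CohB1.IsFT M :=
  have h' : FlatMod.IsFinLocFree M := fun x => let ⟨U, hx, e⟩ := h x; ⟨U, r, hx, e⟩
  ⟨QCoh.isQCoh_of_isFinLocFree h', QCoh.isFT_of_isFP (QCoh.isFP_of_isFinLocFree h')⟩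

theorem isFlag_id {n : Fin 0 → ℕ} (Q : Fin 0 → X.Modules)
    (q : ∀ i, (Scheme.Modules.pullback (𝟙 X)).obj E ⟶ Q i) : Grass.IsFlag (𝟙 X) E n Q q where
  rank i := i.elim0
  epi i := i.elim0
  nested i := i.elim0
  univ T g L _ s _ _ := ⟨g, ⟨Category.comp_id g, fun i => i.elim0, fun i => i.elim0⟩,
    fun h ⟨hh, _⟩ => (Category.comp_id h).symm.trans hh⟩

theorem isIso_of_isFlag_zero {F : Scheme.{u}} {π : F ⟶ X} {n : Fin 0 → ℕ} {Q : Fin 0 → F.Modules}
    {q : ∀ i, (Scheme.Modules.pullback π).obj E ⟶ Q i} (hF : Grass.IsFlag π E n Q q) : IsIso π := by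
  obtain ⟨s, ⟨hs, -⟩, -⟩ := hF.univ X (𝟙 X) (fun i => i.elim0) (fun i => i.elim0) (fun i => i.elim0)
    (fun i => i.elim0) (fun i => i.elim0)
  obtain ⟨z, -, hz⟩ := hF.univ F π Q hF.rank q hF.epi hF.nested
  refine ⟨s, ?_, hs⟩
  exact (hz (π ≫ s) ⟨by rw [Category.assoc, hs, Category.comp_id], fun i => i.elim0, fun i => i.elim0⟩).trans
    (hz (𝟙 F) ⟨Category.id_comp π, fun i => i.elim0, fun i => i.elim0⟩).symm

theorem nested_pull {G T : Scheme.{u}} {π : G ⟶ X} {Q Q' : G.Modules} {q : (Scheme.Modules.pullback π).obj E ⟶ Q}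
    {q' : (Scheme.Modules.pullback π).obj E ⟶ Q'} (h : ∃ t : Q ⟶ Q', q ≫ t = q') (g : T ⟶ G) (c : T ⟶ X)
    (hc : g ≫ π = c) :
    ∃ t, pullQ g π c hc q ≫ t = pullQ g π c hc q' := by
  obtain ⟨t, ht⟩ := h
  exact ⟨(Scheme.Modules.pullback g).map t, by rw [← pullQ_comp_map, ht]⟩

/-- A Grassmannian of the last step of a flag scheme gives a longer flag scheme. -/
theorem exists_flag_of_step {F : Scheme.{u}} {π : F ⟶ X} {m : ℕ} {n : Fin (m + 2) → ℕ}
    {Q : Fin (m + 1) → F.Modules} {q : ∀ i, (Scheme.Modules.pullback π).obj E ⟶ Q i}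
    (hF : Grass.IsFlag π E (fun i => n (Fin.castSucc i)) Q q) {F' : Scheme.{u}} (a : F' ⟶ F) {QG : F'.Modules}
    {qG : (Scheme.Modules.pullback a).obj (Q (Fin.last m)) ⟶ QG}
    (hG : Grass.IsGrass a (Q (Fin.last m)) (n (Fin.last (m + 1))) QG qG) :
    ∃ (Q' : Fin (m + 2) → F'.Modules) (q' : ∀ i, (Scheme.Modules.pullback (a ≫ π)).obj E ⟶ Q' i),
      Grass.IsFlag (a ≫ π) E n Q' q' := by
  haveI := hG.epi
  haveI : ∀ i, Epi (q i) := hF.epi
  let π' := a ≫ π
  let p := fun i => pullQ a π π' rfl (q i)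
  haveI : ∀ i, Epi (p i) := fun i => epi_pullQ _ _ _ _ _
  let fam : Fin (m + 2) → Σ M : F'.Modules, (Scheme.Modules.pullback π').obj E ⟶ M :=
    Fin.snoc (fun i => ⟨_, p i⟩) ⟨QG, p (Fin.last m) ≫ qG⟩
  have hfc : ∀ i, fam (Fin.castSucc i) = ⟨_, p i⟩ := fun i => Fin.snoc_castSucc _ _ _
  have hfl : fam (Fin.last (m + 1)) = ⟨QG, p (Fin.last m) ≫ qG⟩ := Fin.snoc_last _ _
  let Q' := fun i => (fam i).1
  let q' : ∀ i, (Scheme.Modules.pullback π').obj E ⟶ Q' i := fun i => (fam i).2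
  have pullSigma : ∀ {T : Scheme.{u}} (y : T ⟶ F') (c : T ⟶ X) (hy : y ≫ π' = c) {L : T.Modules}
      (s : (Scheme.Modules.pullback c).obj E ⟶ L) (i : Fin (m + 2))
      (τ : Σ M : F'.Modules, (Scheme.Modules.pullback π').obj E ⟶ M), fam i = τ →
      (SameQ (pullQ y π' c hy (q' i)) s ↔ SameQ (pullQ y π' c hy τ.2) s) := by
    intro T y c hy L s i τ h; subst h; exact Iff.rfl
  refine ⟨Q', q', fun i => ?_, fun i => ?_, fun i j hij => ?_, fun T g L hL s hs hn => ?_⟩
  · show FlatMod.IsFinLocFreeOfRank (n i) (fam i).1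
    induction i using Fin.lastCases with
    | last => rw [hfl]; exact hG.rank
    | cast i => rw [hfc]; exact KRRReg.isFinLocFreeOfRank_pullback a (hF.rank i)
  · show Epi (fam i).2
    induction i using Fin.lastCases with
    | last => rw [hfl]; exact epi_comp _ _
    | cast i => rw [hfc]; exact inferInstanceAs (Epi (p i))
  · show ∃ t : (fam i).1 ⟶ (fam j).1, (fam i).2 ≫ t = (fam j).2
    induction j using Fin.lastCases with
    | last =>
      rw [hfl]
      induction i using Fin.lastCases with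
      | last => rw [hfl]; exact ⟨𝟙 _, Category.comp_id _⟩
      | cast i =>
        rw [hfc]
        obtain ⟨w, hw⟩ := nested_pull (hF.nested i (Fin.last m) (Fin.le_last i)) a π' rfl
        exact ⟨w ≫ qG, by rw [← Category.assoc, hw]⟩
    | cast j =>
      rw [hfc]
      induction i using Fin.lastCases with
      | last => exact absurd hij (not_le.2 (Fin.castSucc_lt_last j))
      | cast i =>
        rw [hfc]
        exact nested_pull (hF.nested i j (Fin.castSucc_le_castSucc_iff.1 hij)) a π' rfl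
  · refine (existsUnique_congr fun h => isClassF_iff s h).1 ?_
    obtain ⟨h₀, ⟨hh₀, hs₀⟩, huniq₀⟩ := existsUnique_classF hF (fun i => hL (Fin.castSucc i))
      (fun i => s (Fin.castSucc i)) (fun i => hs _) fun i j hij => hn _ _ (Fin.castSucc_le_castSucc_iff.2 hij)
    obtain ⟨t, ht⟩ := hn (Fin.castSucc (Fin.last m)) (Fin.last (m + 1)) (Fin.le_last _)
    obtain ⟨e, he⟩ := hs₀ (Fin.last m)
    let t₀ := e.hom ≫ t
    have ht₀ : pullQ h₀ π g hh₀ (q (Fin.last m)) ≫ t₀ = s (Fin.last (m + 1)) := by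
      rw [← Category.assoc, he]; exact ht
    haveI := hs (Fin.last (m + 1))
    haveI : Epi (pullQ h₀ π g hh₀ (q (Fin.last m))) := epi_pullQ _ _ _ _ _
    haveI : Epi (pullQ h₀ π g hh₀ (q (Fin.last m)) ≫ t₀) := by rw [ht₀]; infer_instance
    haveI : Epi t₀ := epi_of_epi (pullQ h₀ π g hh₀ (q (Fin.last m))) t₀
    obtain ⟨y, ⟨hy, hys⟩, huniq⟩ := existsUnique_class hG (hL (Fin.last (m + 1))) t₀
    have hy' : y ≫ π' = g := by rw [← Category.assoc, hy]; exact hh₀
    have tower : ∀ (z : T ⟶ F') (hz : z ≫ a = h₀) (hz' : z ≫ π' = g),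
        pullQ h₀ π g hh₀ (q (Fin.last m)) ≫ pullQ z a h₀ hz qG = pullQ z π' g hz' (p (Fin.last m) ≫ qG) :=
      fun z hz hz' => pullQ_tower z a h₀ hz π π' rfl g hh₀ hz' _ _
    refine ⟨y, ⟨hy', fun i => ?_⟩, ?_⟩
    · induction i using Fin.lastCases with
      | last =>
        refine (pullSigma y g hy' _ _ _ hfl).2 ?_
        rw [← tower y hy hy', ← ht₀]
        exact SameQ.comp _ hys
      | cast i =>
        refine (pullSigma y g hy' _ _ _ (hfc i)).2 ?_
        exact ((sameQ_pullQ_pullQ y a π π' rfl g hy' h₀ hy (q i))).trans (hs₀ i)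
    · rintro z ⟨hz', hzs⟩
      have hz : z ≫ a = h₀ := huniq₀ (z ≫ a) ⟨by rw [Category.assoc]; exact hz', fun i =>
        (sameQ_pullQ_pullQ z a π π' rfl g hz' (z ≫ a) rfl (q i)).symm.trans
          ((pullSigma z g hz' _ _ _ (hfc i)).1 (hzs (Fin.castSucc i)))⟩
      refine huniq z ⟨hz, sameQ_of_comp (pullQ h₀ π g hh₀ (q (Fin.last m))) ?_⟩
      rw [tower z hz hz', ht₀]
      exact (pullSigma z g hz' _ _ _ hfl).1 (hzs (Fin.last (m + 1)))

/-- Flag schemes of modules of finite type exist. -/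
theorem exists_flag (hqc : Coh.IsQCoh E) (hft : CohB1.IsFT E) : ∀ (m : ℕ) (n : Fin m → ℕ),
    ∃ (F : Scheme.{u}) (π : F ⟶ X) (Q : Fin m → F.Modules) (q : ∀ i, (Scheme.Modules.pullback π).obj E ⟶ Q i),
      Grass.IsFlag π E n Q q
  | 0, n => ⟨X, 𝟙 X, fun i => i.elim0, fun i => i.elim0, isFlag_id _ _⟩
  | 1, n => by
    obtain ⟨G, π, Q, q, hG⟩ := exists_isGrass hqc hft (n 0)
    refine ⟨G, π, fun _ => Q, fun _ => q, ?_⟩
    rw [show n = ![n 0] from funext fun i => by rw [Subsingleton.elim i 0]; rfl]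
    exact Grass.IsFlag.of_isGrass hG
  | m + 2, n => by
    obtain ⟨F, π, Q, q, hF⟩ := exists_flag hqc hft (m + 1) fun i => n (Fin.castSucc i)
    obtain ⟨F', a, QG, qG, hG⟩ := exists_isGrass (qcoh_ft (hF.rank (Fin.last m))).1 (qcoh_ft (hF.rank (Fin.last m))).2
      (n (Fin.last (m + 1)))
    exact ⟨F', a ≫ π, exists_flag_of_step hF a hG⟩

/-- Restricted families. -/
theorem nested_comp {F : Scheme.{u}} {π : F ⟶ X} {m k : ℕ} {n : Fin m → ℕ} {Q : Fin m → F.Modules}
    {q : ∀ i, (Scheme.Modules.pullback π).obj E ⟶ Q i} (hF : Grass.IsFlag π E n Q q) (ι : Fin k → Fin m)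
    (hι : Monotone ι) (i j : Fin k) (hij : i ≤ j) : ∃ t, q (ι i) ≫ t = q (ι j) :=
  hF.nested _ _ (hι hij)

/-- The morphism forgetting the last step of a flag scheme. -/
theorem step_geometry {F F₁ : Scheme.{u}} {π : F ⟶ X} {π₁ : F₁ ⟶ X} {N : ℕ}
    (hE : FlatMod.IsFinLocFreeOfRank N E) : ∀ (m : ℕ) (n : Fin (m + 1) → ℕ),
    n (Fin.last m) ≤ (Fin.cons N n : Fin (m + 2) → ℕ) (Fin.castSucc (Fin.last m)) →
    ∀ {Q : Fin (m + 1) → F.Modules} {q : ∀ i, (Scheme.Modules.pullback π).obj E ⟶ Q i},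
      Grass.IsFlag π E n Q q →
    ∀ {Q₁ : Fin m → F₁.Modules} {q₁ : ∀ i, (Scheme.Modules.pullback π₁).obj E ⟶ Q₁ i},
      Grass.IsFlag π₁ E (fun i => n (Fin.castSucc i)) Q₁ q₁ →
    ∀ a : F ⟶ F₁, IsClassF π₁ q₁ (fun i => q (Fin.castSucc i)) a →
      SmoothOfRelativeDimension
          (n (Fin.last m) * ((Fin.cons N n : Fin (m + 2) → ℕ) (Fin.castSucc (Fin.last m)) - n (Fin.last m))) a ∧
        IsProper a ∧ Surjective a ∧ (IrreducibleSpace F₁ → IrreducibleSpace F)
  | 0, n, hr, Q, q, hF, Q₁, q₁, hF₁, a, ⟨ha, _⟩ => by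
    haveI := isIso_of_isFlag_zero hF₁
    have hG : Grass.IsGrass π E (n 0) (Q 0) (q 0) := by
      haveI := hF.epi 0
      refine isGrass_mk (hF.rank 0) inferInstance fun T g L hL s hs => ?_
      obtain ⟨h, ⟨hg, hh⟩, hu⟩ := existsUnique_classF hF (g := g) (L := fun _ => L)
        (fun i => by rw [show i = 0 from Subsingleton.elim (α := Fin 1) i 0]; exact hL) (fun _ => s) (fun _ => hs)
        (fun i j _ => ⟨𝟙 _, Category.comp_id _⟩)
      refine ⟨h, ⟨hg, hh 0⟩, fun y ⟨hy, hys⟩ => hu y ⟨hy, fun i => ?_⟩⟩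
      have : i = 0 := Subsingleton.elim (α := Fin 1) i 0
      subst this
      exact hys
    obtain ⟨h1, h2, h3, h4⟩ := geometry hG hE hr
    have e : a = π ≫ inv π₁ := by rw [IsIso.eq_comp_inv, ha]
    rw [e]
    exact ⟨(MorphismProperty.cancel_right_of_respectsIso (@SmoothOfRelativeDimension _) π (inv π₁)).mpr h1,
      (MorphismProperty.cancel_right_of_respectsIso @IsProper π (inv π₁)).mpr h2,
      (MorphismProperty.cancel_right_of_respectsIso @Surjective π (inv π₁)).mpr h3,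
      fun h => h4 ((asIso π₁).hom.homeomorph.irreducibleSpace_iff.1 h)⟩
  | m + 1, n, hr, Q, q, hF, Q₁, q₁, hF₁, a, ⟨ha, hs⟩ => by
    obtain ⟨t, ht⟩ := hF.nested (Fin.castSucc (Fin.last m)) (Fin.last (m + 1)) (Fin.le_last _)
    have hG := isGrass_step hF₁ hF a ha (fun i => (hs i).choose) (fun i => (hs i).choose_spec) t ht
    have hc : (Fin.cons N n : Fin (m + 3) → ℕ) (Fin.castSucc (Fin.last (m + 1))) = n (Fin.castSucc (Fin.last m)) := rfl
    rw [hc] at hr ⊢
    exact geometry hG (hF₁.rank (Fin.last m)) hr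

/-- The morphisms forgetting the later steps of a flag scheme. -/
theorem tower_geometry {N : ℕ} (hE : FlatMod.IsFinLocFreeOfRank N E) {k : ℕ} {F₀ : Scheme.{u}} {π₀ : F₀ ⟶ X}
    {n₀ : Fin k → ℕ} {Q₀ : Fin k → F₀.Modules} {q₀ : ∀ i, (Scheme.Modules.pullback π₀).obj E ⟶ Q₀ i}
    (hF₀ : Grass.IsFlag π₀ E n₀ Q₀ q₀) : ∀ (m : ℕ) (hk : k ≤ m) (n : Fin m → ℕ), StrictAnti n → (∀ i, n i < N) →
    (∀ i, n (Fin.castLE hk i) = n₀ i) → ∀ (F : Scheme.{u}) (π : F ⟶ X) (Q : Fin m → F.Modules)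
      (q : ∀ i, (Scheme.Modules.pullback π).obj E ⟶ Q i), Grass.IsFlag π E n Q q → ∀ a : F ⟶ F₀,
        IsClassF π₀ q₀ (fun i => q (Fin.castLE hk i)) a →
      SmoothOfRelativeDimension (∑ i : Fin m, if k ≤ (i : ℕ) then
          n i * ((Fin.cons N n : Fin (m + 1) → ℕ) (Fin.castSucc i) - n i) else 0) a ∧
        IsProper a ∧ Surjective a ∧ (IrreducibleSpace F₀ → IrreducibleSpace F) := by
  intro m
  induction m with
  | zero =>
    intro hk n _ _ hn₀ F π Q q hF a ⟨ha, _⟩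
    obtain rfl : k = 0 := Nat.le_zero.1 hk
    haveI := isIso_of_isFlag_zero hF
    haveI := isIso_of_isFlag_zero hF₀
    haveI : IsIso a := by rw [show a = π ≫ inv π₀ from (IsIso.eq_comp_inv π₀).2 ha]; infer_instance
    refine ⟨?_, inferInstance, inferInstance, fun h => (asIso a).hom.homeomorph.irreducibleSpace_iff.2 h⟩
    simp only [Finset.univ_eq_empty, Finset.sum_empty]
    infer_instance
  | succ m ih =>
    intro hk n hn hN hn₀ F π Q q hF a hca
    rcases Nat.lt_or_ge k (m + 1) with hlt | hge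
    · have hk' : k ≤ m := Nat.lt_succ_iff.1 hlt
      obtain ⟨hqc, hft⟩ := qcoh_ft hE
      obtain ⟨F₁, π₁, Q₁, q₁, hF₁⟩ := exists_flag hqc hft m fun i => n (Fin.castSucc i)
      obtain ⟨b, hb, -⟩ := existsUnique_classF hF₁ (fun i => hF.rank (Fin.castSucc i)) (fun i => q (Fin.castSucc i))
        (fun i => hF.epi _) (nested_comp hF Fin.castSucc Fin.strictMono_castSucc.monotone)
      obtain ⟨c, ⟨hc, hcs⟩, -⟩ := existsUnique_classF hF₀
        (fun i => by rw [← hn₀ i]; exact hF₁.rank (Fin.castLE hk' i)) (fun i => q₁ (Fin.castLE hk' i))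
        (fun i => hF₁.epi _) (nested_comp hF₁ (Fin.castLE hk') (fun _ _ h => (Fin.castLE_le_castLE_iff hk').mpr h))
      have hr : n (Fin.last m) ≤ (Fin.cons N n : Fin (m + 2) → ℕ) (Fin.castSucc (Fin.last m)) := by
        rcases Nat.eq_zero_or_pos m with rfl | hm
        · exact (hN _).le
        · obtain ⟨j, rfl⟩ := Nat.exists_eq_succ_of_ne_zero hm.ne'
          exact (hn (Fin.castSucc_lt_last (Fin.last j))).le
      obtain ⟨s1, s2, s3, s4⟩ := step_geometry hE m n hr hF hF₁ b hb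
      obtain ⟨t1, t2, t3, t4⟩ := ih hk' (fun i => n (Fin.castSucc i))
        (fun i j h => hn (Fin.castSucc_lt_castSucc_iff.2 h)) (fun i => hN _) (fun i => hn₀ i) F₁ π₁ Q₁ q₁ hF₁ c ⟨hc, hcs⟩
      have hab : a = b ≫ c := by
        obtain ⟨hb1, hb2⟩ := hb
        refine (existsUnique_classF hF₀ (fun i => by rw [← hn₀ i]; exact hF.rank _) _ (fun i => hF.epi _)
          (nested_comp hF (Fin.castLE hk) (fun _ _ h => (Fin.castLE_le_castLE_iff hk).mpr h))).unique hca
          ⟨by rw [Category.assoc, hc, hb1], fun i => ?_⟩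
        exact ((sameQ_pullQ_pullQ b c π₀ π₁ hc π hb1 (b ≫ c) rfl (q₀ i)).symm.trans
          (SameQ.pullQ b π hb1 (hcs i))).trans (hb2 (Fin.castLE hk' i))
      rw [hab]
      refine ⟨?_, MorphismProperty.comp_mem _ _ _ s2 t2, MorphismProperty.comp_mem _ _ _ s3 t3, fun h => s4 (t4 h)⟩
      haveI := s1
      haveI := t1
      have key : (∑ i : Fin (m + 1), if k ≤ (i : ℕ) then
            n i * ((Fin.cons N n : Fin (m + 2) → ℕ) (Fin.castSucc i) - n i) else 0) =
          n (Fin.last m) * ((Fin.cons N n : Fin (m + 2) → ℕ) (Fin.castSucc (Fin.last m)) - n (Fin.last m)) +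
            ∑ i : Fin m, if k ≤ (i : ℕ) then n (Fin.castSucc i) *
              ((Fin.cons N (fun i => n (Fin.castSucc i)) : Fin (m + 1) → ℕ) (Fin.castSucc i) - n (Fin.castSucc i))
              else 0 := by
        rw [Fin.sum_univ_castSucc, add_comm, Fin.val_last, if_pos hk']
        refine congrArg _ (Finset.sum_congr rfl fun i _ => ?_)
        rw [Fin.val_castSucc]
        have : (Fin.cons N n : Fin (m + 2) → ℕ) (Fin.castSucc (Fin.castSucc i)) =
            (Fin.cons N (fun i => n (Fin.castSucc i)) : Fin (m + 1) → ℕ) (Fin.castSucc i) := by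
          obtain ⟨_ | i, hi⟩ := i <;> rfl
        rw [this]
      rw [key]
      infer_instance
    · obtain rfl : k = m + 1 := le_antisymm hk hge
      have hn' : n₀ = n := funext fun i => ((hn₀ i).symm.trans (congrArg n (Fin.ext rfl)))
      subst hn'
      obtain ⟨ha, has⟩ := hca
      obtain ⟨b, ⟨hb, hbs⟩, -⟩ := existsUnique_classF hF hF₀.rank q₀ hF₀.epi hF₀.nested
      haveI : IsIso a := by
        refine ⟨b, ?_, ?_⟩
        · refine (existsUnique_classF hF hF.rank q hF.epi hF.nested).unique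
            ⟨by rw [Category.assoc, hb, ha], fun i => ?_⟩ ⟨Category.id_comp π, fun i => ?_⟩
          · exact ((sameQ_pullQ_pullQ a b π π₀ hb π ha (a ≫ b) rfl (q i)).symm.trans
              (SameQ.pullQ a π ha (hbs i))).trans (has i)
          · haveI := hF.epi i; exact sameQ_pullQ_id π (q i)
        · refine (existsUnique_classF hF₀ hF₀.rank q₀ hF₀.epi hF₀.nested).unique
            ⟨by rw [Category.assoc, ha, hb], fun i => ?_⟩ ⟨Category.id_comp π₀, fun i => ?_⟩
          · exact ((sameQ_pullQ_pullQ b a π₀ π ha π₀ hb (b ≫ a) rfl (q₀ i)).symm.trans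
              (SameQ.pullQ b π₀ hb (has i))).trans (hbs i)
          · haveI := hF₀.epi i; exact sameQ_pullQ_id π₀ (q₀ i)
      refine ⟨?_, inferInstance, inferInstance, fun h => (asIso a).hom.homeomorph.irreducibleSpace_iff.2 h⟩
      rw [Finset.sum_eq_zero fun i _ => if_neg (not_le.2 i.isLt)]
      infer_instance

end Groth.Agent.GrassSch

end
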