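import Groth.Agent.GrassSch.Plucker
import Groth.Agent.GrassSch.Tower

/-!
# The Plücker embedding
-/

set_option autoImplicit false
set_option linter.style.haveILetI false
set_option linter.unusedSectionVars false
set_option backward.isDefEq.respectTransparency false
set_option backward.isDefEq.respectTransparency.types false
set_option maxHeartbeats 1000000
set_option synthInstance.maxHeartbeats 400000

universe u

open CategoryTheory CategoryTheory.Limits AlgebraicGeometry TopologicalSpace Opposite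

attribute [-instance] CategoryTheory.catToReflQuiver

noncomputable section

namespace Groth.Agent.GrassSch

open Groth.Agent Groth.Agent.QuotRep Groth.Agent.ExtPowSh

variable {X G : Scheme.{u}} {π : G ⟶ X} {E : X.Modules} {r : ℕ} {Q : G.Modules}
  {q : (Scheme.Modules.pullback π).obj E ⟶ Q}

theorem epi_pl (hE : Coh.IsQCoh E) (hQ : Coh.IsQCoh Q) [Epi q] (i : ℕ) : Epi (pl i π q) := by
  haveI := isIso_compHom π E i hE
  haveI := epi_mapL i q (QCoh.isQCoh_pullback π hE) hQ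
  exact epi_comp _ _

theorem isQCoh_rank {Y : Scheme.{u}} {M : Y.Modules} {n : ℕ} (h : FlatMod.IsFinLocFreeOfRank n M) : Coh.IsQCoh M :=
  (qcoh_ft h).1

/-- The Plücker morphism of a locally free module is a closed immersion. -/
theorem exists_plucker {n : ℕ} (hr : r ≤ n) (hV : FlatMod.IsFinLocFreeOfRank n E)
    (hG : Grass.IsGrass π E r Q q) {P : Scheme.{u}} {πP : P ⟶ X} {O1 : P.Modules}
    {w : (Scheme.Modules.pullback πP).obj (L E r) ⟶ O1} (hP : Grass.IsGrass πP (L E r) 1 O1 w) :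
    ∃ c : G ⟶ P, IsClosedImmersion c ∧ c ≫ πP = π := by
  have hE : Coh.IsQCoh E := isQCoh_rank hV
  haveI := hG.epi
  haveI := hP.epi
  haveI := epi_pl (π := π) (q := q) hE (isQCoh_rank hG.rank) r
  have hD : FlatMod.IsFinLocFreeOfRank 1 (L Q r) := by
    have := ExtPowSh.isFinLocFreeOfRank (E := Q) (i := r) hG.rank
    rwa [Nat.choose_self] at this
  obtain ⟨c, hc, -⟩ := existsUnique_class hP hD (pl r π q)
  refine ⟨c, ?_, hc.1⟩
  obtain ⟨-, hπ, -, -⟩ := geometry hG hV hr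
  obtain ⟨-, hπP, -, -⟩ := geometry hP (ExtPowSh.isFinLocFreeOfRank (E := E) (i := r) hV) (Nat.choose_pos hr)
  haveI : IsProper c := by
    haveI : IsProper (c ≫ πP) := by rw [hc.1]; exact hπ
    exact IsProper.of_comp c πP
  haveI : Mono c := by
    constructor
    intro T h₁ h₂ e
    let g := h₁ ≫ π
    have h₂g : h₂ ≫ π = g := by
      show _ = h₁ ≫ π
      rw [← hc.1, ← Category.assoc, ← e, Category.assoc]
    let s₁ := pullQ h₁ π g rfl q
    let s₂ := pullQ h₂ π g h₂g q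
    haveI : Epi s₁ := epi_pullQ _ _ _ _ _
    haveI : Epi s₂ := epi_pullQ _ _ _ _ _
    have hr₁ := KRRReg.isFinLocFreeOfRank_pullback h₁ hG.rank
    have hr₂ := KRRReg.isFinLocFreeOfRank_pullback h₂ hG.rank
    have c₁ := hc.comp h₁ g rfl
    have c₂ := hc.comp h₂ g h₂g
    have hS : SameQ (pullQ h₁ π g rfl (pl r π q)) (pullQ h₂ π g h₂g (pl r π q)) := by
      obtain ⟨w₁, hw₁⟩ := c₁
      obtain ⟨w₂, hw₂⟩ := c₂
      exact hw₁.symm.trans ((sameQ_pullQ_congr e πP g w₁ w₂ w).trans hw₂)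
    haveI := isIso_compHom g E r hE
    haveI := isIso_compHom h₁ Q r (isQCoh_rank hG.rank)
    haveI := isIso_compHom h₂ Q r (isQCoh_rank hG.rank)
    have hn₁ : SameQ (pullQ h₁ π g rfl (pl r π q)) (pl r g s₁) :=
      ⟨asIso (compHom h₁ Q r), pl_natural r hE h₁ π g rfl q⟩
    have hn₂ : SameQ (pullQ h₂ π g h₂g (pl r π q)) (pl r g s₂) :=
      ⟨asIso (compHom h₂ Q r), pl_natural r hE h₂ π g h₂g q⟩
    obtain ⟨ε, hε⟩ := sameQ_of_comp (compHom g E r) (hn₁.symm.trans (hS.trans hn₂))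
    have hEg := QCoh.isQCoh_pullback g hE
    let d := Abelian.epiDesc s₂ s₁ (ker_comp_eq_zero hEg hr₁ (isQCoh_rank hr₂) s₁ s₂ ε hε)
    let d' := Abelian.epiDesc s₁ s₂ (ker_comp_eq_zero hEg hr₂ (isQCoh_rank hr₁) s₂ s₁ ε.symm (by
      rw [← hε, Category.assoc, Iso.symm_hom, Iso.hom_inv_id, Category.comp_id]))
    have hd : s₂ ≫ d = s₁ := Abelian.comp_epiDesc _ _ _
    have hd' : s₁ ≫ d' = s₂ := Abelian.comp_epiDesc _ _ _
    exact (existsUnique_class hG hr₁ s₁).unique ⟨rfl, ⟨Iso.refl _, Category.comp_id _⟩⟩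
      ⟨h₂g, ⟨⟨d, d', by rw [← cancel_epi s₂, ← Category.assoc, hd, hd', Category.comp_id],
        by rw [← cancel_epi s₁, ← Category.assoc, hd', hd, Category.comp_id]⟩, hd⟩⟩
  exact (IsClosedImmersion.iff_isProper_and_mono c).2 ⟨inferInstance, inferInstance⟩

/-- Quotients on `S ×_S T` as quotients on `T`. -/
theorem exists_rep {S : Scheme.{u}} {V : S.Modules} {k : ℕ} {G : Scheme.{u}} {π : G ⟶ S} {Q : G.Modules}
    {q : (Scheme.Modules.pullback π).obj V ⟶ Q} (hG : Grass.IsGrass π V k Q q) :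
    ∃ K : Subobject (FGA.ET (𝟙 S) V (Over.mk π)), FlatMod.IsFinLocFreeOfRank k (cokernel K.arrow) ∧
      ∀ (T : Over S) (K' : Subobject (FGA.ET (𝟙 S) V T)), FlatMod.IsFinLocFreeOfRank k (cokernel K'.arrow) →
        ∃! g : T ⟶ Over.mk π, FGA.quotPull (𝟙 S) V g K = K' := by
  haveI := hG.epi
  let GO : Over S := Over.mk π
  let a := pullback.snd (𝟙 S) π
  let b := pullback.fst (𝟙 S) π
  have hab : a ≫ π = b := by rw [← pullback.condition, Category.comp_id]
  let qK := pullQ a π b hab q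
  haveI : Epi qK := epi_pullQ _ _ _ _ _
  refine ⟨kernelSubobject qK, (ConsPropLib.isFinLocFreeOfRank_iso (sameQ_kernelSubobject qK).choose).1
    (KRRReg.isFinLocFreeOfRank_pullback a hG.rank), fun T K' hK' => ?_⟩
  let b' := pullback.fst (𝟙 S) T.hom
  let a' := pullback.snd (𝟙 S) T.hom
  haveI : IsIso a' := inferInstanceAs (IsIso (pullback.snd (𝟙 S) T.hom))
  have hab' : a' ≫ T.hom = b' := by rw [← pullback.condition, Category.comp_id]
  have key : ∀ g : T ⟶ GO, FGA.quotPull (𝟙 S) V g (kernelSubobject qK) = K' ↔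
      IsClass π q (cokernel.π K'.arrow) (a' ≫ g.left) := by
    intro g
    rw [quotPull_eq_iff]
    have hm : PicF.XTmap (𝟙 S) g ≫ a = a' ≫ g.left := by
      rw [XTmap_eq]
      exact pullback.lift_snd _ _ _
    have hg : (a' ≫ g.left) ≫ π = b' := by rw [Category.assoc, ← hab']; exact congrArg (a' ≫ ·) (Over.w g)
    have h1 : SameQ (pullQ (PicF.XTmap (𝟙 S) g) (pullback.fst (𝟙 S) GO.hom) b' (FGA.XTmap_fst (𝟙 S) g)
        (cokernel.π (kernelSubobject qK).arrow)) (pullQ (a' ≫ g.left) π b' hg q) :=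
      (SameQ.pullQ _ _ _ (sameQ_kernelSubobject qK).symm).trans
        (sameQ_pullQ_pullQ _ a π b hab b' (FGA.XTmap_fst (𝟙 S) g) (a' ≫ g.left) hm q)
    exact ⟨fun h => ⟨hg, h1.symm.trans h⟩, fun ⟨_, h⟩ => h1.trans h⟩
  obtain ⟨h, hh, huniq⟩ := existsUnique_class hG hK' (cokernel.π K'.arrow)
  refine ⟨Over.homMk (inv a' ≫ h) ?_, (key _).2 ?_, fun g hg => ?_⟩
  · show (inv a' ≫ h) ≫ π = T.hom
    rw [Category.assoc, hh.1, IsIso.inv_comp_eq, hab']
  · show IsClass π q _ (a' ≫ inv a' ≫ h)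
    rw [IsIso.hom_inv_id_assoc]
    exact hh
  · refine Over.OverMorphism.ext ?_
    show g.left = inv a' ≫ h
    rw [IsIso.eq_inv_comp]
    exact huniq _ ((key g).1 hg)

end Groth.Agent.GrassSch

end
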