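import Groth.Agent.GrassSch.Basic
import Groth.Agent.ExistEasy.PP.PullSec
import Groth.Agent.MorLib.ProjSections
import Groth.Agent.H28.ClosedSub
import Groth.Agent.QuotRep.ZeroLocus

/-!
# The vanishing locus of a map into a locally free module
-/

set_option autoImplicit false
set_option linter.style.haveILetI false
set_option linter.unusedSectionVars false
set_option backward.isDefEq.respectTransparency false
set_option backward.isDefEq.respectTransparency.types false
set_option maxHeartbeats 1000000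
set_option synthInstance.maxHeartbeats 400000

universe u

open CategoryTheory CategoryTheory.Limits AlgebraicGeometry TopologicalSpace Opposite
open scoped TensorProduct

attribute [-instance] CategoryTheory.catToReflQuiver

noncomputable section

namespace Groth.Agent.GrassSch

open Groth.Agent Groth.Agent.QuotRep

variable {W : Scheme.{u}}

/-- Sections of a locally free module over an affine open form a finite projective module. -/
theorem finite_projective_sections {Q : W.Modules} (hQ : FlatMod.IsFinLocFree Q) {U : W.Opens}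
    (hU : IsAffineOpen U) : Module.Finite Γ(W, U) Γ(Q, U) ∧ Module.Projective Γ(W, U) Γ(Q, U) := by
  refine ⟨QCoh.finite_of_isFT (QCoh.isQCoh_of_isFinLocFree hQ)
    (QCoh.isFT_of_isFP (QCoh.isFP_of_isFinLocFree hQ)) hU, ?_⟩
  choose V n hx he using hQ
  have hb : ∀ x : W, ∃ A : W.Opens, IsAffineOpen A ∧ x ∈ A ∧ A ≤ V x := fun x => by
    obtain ⟨A, hA, hxA, hle⟩ := exists_isAffineOpen_mem_and_subset (hx x)
    exact ⟨A, hA, hxA, hle⟩
  choose A hA hxA hle using hb
  refine MorLib.projective_sections_of_cover (QCoh.isQCoh_of_isFinLocFree fun x => ⟨V x, n x, hx x, he x⟩) A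
    (top_le_iff.1 fun x _ => Opens.mem_iSup.2 ⟨x, hxA x⟩) hA (fun x => ?_) hU
  obtain ⟨e⟩ := he x
  obtain ⟨l⟩ := QCoh.free_sections (hA x) (hle x) e
  exact Module.Projective.of_equiv l.symm

theorem appLE_specMap_fromSpec {U : W.Opens} (hU : IsAffineOpen U) {R : CommRingCat.{u}} (q : Γ(W, U) ⟶ R)
    (hle : (⊤ : (Spec R).Opens) ≤ (Spec.map q ≫ hU.fromSpec) ⁻¹ᵁ U) :
    (Spec.map q ≫ hU.fromSpec).appLE U ⊤ hle = q ≫ (Scheme.ΓSpecIso R).inv := by
  have e : (⊤ : (Spec Γ(W, U)).Opens) ≤ hU.fromSpec ⁻¹ᵁ U := fun y _ => hU.range_fromSpec.le ⟨y, rfl⟩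
  rw [← Scheme.Hom.appLE_comp_appLE (Spec.map q) hU.fromSpec U ⊤ ⊤ e le_top,
    show hU.fromSpec.appLE U ⊤ e = (Scheme.ΓSpecIso Γ(W, U)).inv by
      rw [Scheme.Hom.appLE, hU.fromSpec_app_self, Category.assoc, ← Functor.map_comp]
      exact (congrArg _ (CategoryTheory.Functor.map_id _ _)).trans (Category.comp_id _),
    show (Spec.map q).appLE ⊤ ⊤ le_top = (Spec.map q).appTop from (Spec.map q).app_eq_appLE.symm]
  exact (Scheme.ΓSpecIso_inv_naturality q).symm

theorem pullback_map_eq_zero_of_comp {Y Z : Scheme.{u}} (a : Z ⟶ Y) (b : Y ⟶ W) {A Q : W.Modules} (u : A ⟶ Q)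
    (h : (Scheme.Modules.pullback (a ≫ b)).map u = 0) :
    (Scheme.Modules.pullback a).map ((Scheme.Modules.pullback b).map u) = 0 := by
  show (Scheme.Modules.pullback b ⋙ Scheme.Modules.pullback a).map u = 0
  rw [← cancel_mono ((Scheme.Modules.pullbackComp a b).hom.app Q),
    (Scheme.Modules.pullbackComp a b).hom.naturality u, h, comp_zero, zero_comp]

/-- Vanishing after base change of a map into a locally free module is a closed condition. -/
theorem exists_vanish {A Q : W.Modules} (hA : Coh.IsQCoh A) (hQ : FlatMod.IsFinLocFree Q) (u : A ⟶ Q) :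
    ∃ (Z : Scheme.{u}) (i : Z ⟶ W), IsClosedImmersion i ∧
      ∀ {T : Scheme.{u}} (x : T ⟶ W), (Scheme.Modules.pullback x).map u = 0 ↔ ∃ z, z ≫ i = x := by
  refine H28.ClosedSub.exists_closed (fun {T} x => (Scheme.Modules.pullback x).map u = 0)
    (fun a x h => pullback_map_eq_zero_comp a x u h) (fun {T} x 𝒱 h => ?_) (fun U => ?_)
  · refine eq_zero_of_restrict _ fun y => ?_
    obtain ⟨i, hi⟩ : ∃ i, y ∈ (𝒱.f i).opensRange := ⟨_, (𝒱.covers y).choose, (𝒱.covers y).choose_spec⟩
    refine ⟨(𝒱.f i).opensRange, hi, ?_⟩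
    rw [← IsOpenImmersion.lift_fac (𝒱.f i) (𝒱.f i).opensRange.ι (by rw [Scheme.Opens.range_ι]; exact le_rfl)]
    exact pullback_map_eq_zero_comp _ (𝒱.f i) _ (pullback_map_eq_zero_of_comp _ x u (h i))
  · obtain ⟨hfin, hproj⟩ := finite_projective_sections hQ U.2
    haveI := hfin; haveI := hproj
    obtain ⟨l, p, hp⟩ := Module.Finite.exists_fin' Γ(W, U.1) Γ(Q, U.1)
    obtain ⟨s, hs⟩ := Module.projective_lifting_property p LinearMap.id hp
    refine ⟨Ideal.span (Set.range fun ak : Γ(A, U.1) × Fin l => s (u.app U.1 ak.1) ak.2), fun R q => ?_⟩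
    let x := Spec.map q ≫ U.2.fromSpec
    have hle : (⊤ : (Spec R).Opens) ≤ x ⁻¹ᵁ U.1 := fun y _ => U.2.range_fromSpec.le ⟨Spec.map q y, rfl⟩
    letI : Algebra Γ(W, U.1) Γ(Spec R, ⊤) := (x.appLE U.1 ⊤ hle).hom.toAlgebra
    letI : Module Γ(W, U.1) Γ((Scheme.Modules.pullback x).obj A, ⊤) := Module.compHom _ (x.appLE U.1 ⊤ hle).hom
    letI : Module Γ(W, U.1) Γ((Scheme.Modules.pullback x).obj Q, ⊤) := Module.compHom _ (x.appLE U.1 ⊤ hle).hom
    haveI : IsScalarTower Γ(W, U.1) Γ(Spec R, ⊤) Γ((Scheme.Modules.pullback x).obj A, ⊤) :=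
      ⟨fun a b c => mul_smul ((x.appLE U.1 ⊤ hle).hom a) b c⟩
    haveI : IsScalarTower Γ(W, U.1) Γ(Spec R, ⊤) Γ((Scheme.Modules.pullback x).obj Q, ⊤) :=
      ⟨fun a b c => mul_smul ((x.appLE U.1 ⊤ hle).hom a) b c⟩
    obtain ⟨lA, hlA, hbA⟩ := ExistEasy.exists_pullSec_baseChange x hA (isAffineOpen_top _) U.2 hle
    obtain ⟨lQ, hlQ, hbQ⟩ :=
      ExistEasy.exists_pullSec_baseChange x (QCoh.isQCoh_of_isFinLocFree hQ) (isAffineOpen_top _) U.2 hle
    let C := Γ(Spec R, ⊤)
    have hzero : (Scheme.Modules.pullback x).map u = 0 ↔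
        ∀ a : Γ(A, U.1), QCoh.pullSec x Q hle (u.app U.1 a) = 0 := by
      refine ⟨fun h a => ?_, fun h => (QCoh.bijective_ΓMap (QCoh.isQCoh_pullback x hA) _).1 ?_⟩
      · rw [← ExistEasy.pullSec_natural x u hle a, h]
        rfl
      · refine ModuleCat.hom_ext (LinearMap.ext fun z => ?_)
        refine Eq.trans (?_ : ((Scheme.Modules.pullback x).map u).app ⊤ z = 0) rfl
        refine hbA.inductionOn z (fun z => ((Scheme.Modules.pullback x).map u).app ⊤ z = 0) (map_zero _)
          (fun a => ?_) (fun c w hw => ?_) (fun a b ha hb => ?_)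
        · rw [hlA a, ExistEasy.pullSec_natural x u hle a]
          exact h a
        · rw [Scheme.Modules.Hom.app_smul, hw]
          exact smul_zero _
        · rw [map_add, ha, hb, add_zero]
    have hcoord : ∀ m : Γ(Q, U.1), QCoh.pullSec x Q hle m = 0 ↔ ∀ k, x.appLE U.1 ⊤ hle (s m k) = 0 := fun m => by
      have hinj : Function.Injective (s.baseChange C) :=
        Function.LeftInverse.injective (g := p.baseChange C) fun z => by
          rw [← LinearMap.comp_apply, ← LinearMap.baseChange_comp, hs, LinearMap.baseChange_id]; rfl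
      have hb1 : QCoh.pullSec x Q hle m = hbQ.equiv ((1 : C) ⊗ₜ[Γ(W, U.1)] m) := by
        rw [IsBaseChange.equiv_tmul, one_smul, hlQ]
      rw [hb1, hbQ.equiv.map_eq_zero_iff, ← map_eq_zero_iff _ hinj, LinearMap.baseChange_tmul,
        ← (TensorProduct.piScalarRight Γ(W, U.1) C C (Fin l)).map_eq_zero_iff, TensorProduct.piScalarRight_apply,
        funext_iff]
      refine forall_congr' fun k => ?_
      rw [TensorProduct.piScalarRightHom_tmul]
      exact Iff.of_eq (congrArg (· = 0)
        (show s m k • (1 : C) = x.appLE U.1 ⊤ hle (s m k) by rw [Algebra.smul_def, mul_one]; rfl))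
    rw [hzero, Ideal.span_le, Set.range_subset_iff]
    refine ⟨fun h ak => ?_, fun h a => (hcoord _).2 fun k => ?_⟩
    · have := (hcoord _).1 (h ak.1) ak.2
      rw [appLE_specMap_fromSpec U.2 q hle] at this
      exact RingHom.mem_ker.2 ((map_eq_zero_iff _
        (ConcreteCategory.bijective_of_isIso (Scheme.ΓSpecIso R).inv).1).1 this)
    · rw [appLE_specMap_fromSpec U.2 q hle]
      exact (congrArg (Scheme.ΓSpecIso R).inv (RingHom.mem_ker.1 (h (a, k)))).trans (map_zero _)

end Groth.Agent.GrassSch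

end
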